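import Cfsg.Agent.Lib.RankTwoModel.SL2Semi
import Mathlib.LinearAlgebra.LinearIndependent.Lemmas

/-!
Automorphisms of `SL₂(q)` with a field part of odd order.

* `exists_pure`: one of the order of its field part is conjugate to the field automorphism;
* `mem_fixSL`: the fixed points of the field automorphism;
* `over_fix`: a conjugation commuting with it is by a matrix over the fixed field.
-/

set_option autoImplicit false
set_option linter.unusedSectionVars false

namespace CfsgLib.RankTwoModel.SL2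

open Matrix CfsgLib.PSL2
open scoped MatrixGroups

variable {F : Type} [Field F] [Fintype F]

local notation "M2" => Matrix (Fin 2) (Fin 2) F
local notation "SL" => Matrix.SpecialLinearGroup (Fin 2) F

theorem fieldSL_val (e : F ≃+* F) (A : SL) : (fieldSL e A).1 = A.1.map e := rfl

theorem eq_semi {φ : MulAut SL} {g : GL (Fin 2) F} {e : F ≃+* F} (h : Semi φ g e) :
    φ = conjSL g * fieldSL e :=
  MulEquiv.ext fun A => Subtype.ext (h A)

theorem semi_eq (g : GL (Fin 2) F) (e : F ≃+* F) : Semi (conjSL g * fieldSL e) g e := fun _ => rfl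

theorem fieldSL_mul (e f : RingAut F) : fieldSL e * fieldSL f = fieldSL (e * f) :=
  MulEquiv.ext fun _ => Subtype.ext (Matrix.ext fun _ _ => rfl)

theorem fieldSL_one : fieldSL (1 : RingAut F) = 1 :=
  MulEquiv.ext fun _ => Subtype.ext (Matrix.ext fun _ _ => rfl)

theorem fieldSL_conjSL (e : F ≃+* F) (g : GL (Fin 2) F) :
    fieldSL e * conjSL g = conjSL (GeneralLinearGroup.map e.toRingHom g) * fieldSL e :=
  MulEquiv.ext fun A => Subtype.ext (by
    show (g.1 * A.1 * (g⁻¹).1).map e.toRingHom = g.1.map e.toRingHom * A.1.map e.toRingHom * _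
    rw [Matrix.map_mul, Matrix.map_mul, ← map_inv]
    rfl)

theorem conjSL_smul {g g' : GL (Fin 2) F} {c : F} (hg : g.1 = c • g'.1) (hc : c ≠ 0) : conjSL g = conjSL g' := by
  refine MulEquiv.ext fun A => Subtype.ext ?_
  have hinv : (g⁻¹).1 = c⁻¹ • (g'⁻¹).1 := by
    have h1 : g.1 * (c⁻¹ • (g'⁻¹).1) = 1 := by
      rw [hg, Matrix.smul_mul, Matrix.mul_smul, smul_smul, mul_inv_cancel₀ hc, one_smul, Units.mul_inv]
    exact Units.inv_eq_of_mul_eq_one_right h1
  rw [coe_conjSL, coe_conjSL, hg, hinv, Matrix.smul_mul, Matrix.smul_mul, Matrix.mul_smul, smul_smul,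
    mul_inv_cancel₀ hc, one_smul]

theorem scalar_of_fix_uv {g : GL (Fin 2) F} (hu : g.1 * (uSL (1 : F)).1 = (uSL (1 : F)).1 * g.1)
    (hv : g.1 * (vSL (1 : F)).1 = (vSL (1 : F)).1 * g.1) : g.1 = g.1 0 0 • (1 : M2) := by
  have a1 := congrFun (congrFun hu 0) 0
  have a2 := congrFun (congrFun hu 0) 1
  have b1 := congrFun (congrFun hv 0) 0
  simp [coe_uSL, coe_vSL, Matrix.mul_apply, Fin.sum_univ_two] at a1 a2 b1
  ext i j
  fin_cases i <;> fin_cases j <;> simp [a1, b1]
  linear_combination -a2

theorem comm_of_conjSL {g : GL (Fin 2) F} {A : SL} (h : conjSL g A = A) : g.1 * A.1 = A.1 * g.1 := by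
  have h1 : g.1 * A.1 * (g⁻¹).1 = A.1 := congrArg Subtype.val h
  calc g.1 * A.1 = g.1 * A.1 * ((g⁻¹).1 * g.1) := by rw [Units.inv_mul, mul_one]
    _ = A.1 * g.1 := by rw [← Matrix.mul_assoc, h1]

theorem conjSL_scalar {g : GL (Fin 2) F} {c : F} (hg : g.1 = c • (1 : M2)) : conjSL g = 1 := by
  have hc : c ≠ 0 := fun e => GW.Model.det_ne g (by rw [hg, e, zero_smul, Matrix.det_zero])
  rw [conjSL_smul (g' := 1) (by rw [hg]; rfl) hc, map_one]

/-- A semilinear conjugation is trivial only if both parts are. -/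
theorem semi_eq_one {g : GL (Fin 2) F} {e : F ≃+* F} (h : conjSL g * fieldSL e = 1) :
    e = RingEquiv.refl F ∧ g.1 = g.1 0 0 • (1 : M2) := by
  have hfix : ∀ t : F, e t = t → conjSL g (uSL t) = uSL t ∧ conjSL g (vSL t) = vSL t := fun t ht => by
    have hu : fieldSL e (uSL t) = uSL t := Subtype.ext (by
      rw [fieldSL_val]; ext i j; fin_cases i <;> fin_cases j <;> simp [coe_uSL, ht])
    have hv : fieldSL e (vSL t) = vSL t := Subtype.ext (by
      rw [fieldSL_val]; ext i j; fin_cases i <;> fin_cases j <;> simp [coe_vSL, ht])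
    exact ⟨by simpa [hu] using MulEquiv.congr_fun h (uSL t), by simpa [hv] using MulEquiv.congr_fun h (vSL t)⟩
  have hs := scalar_of_fix_uv (comm_of_conjSL (hfix 1 (map_one e)).1) (comm_of_conjSL (hfix 1 (map_one e)).2)
  refine ⟨RingEquiv.ext fun t => ?_, hs⟩
  rw [conjSL_scalar hs, one_mul] at h
  simpa [fieldSL_val, coe_uSL] using congrFun (congrFun (congrArg Subtype.val (MulEquiv.congr_fun h (uSL t))) 0) 1

/-- The iterated product of a semilinear map. -/
noncomputable def twistPow (g : GL (Fin 2) F) (e : F ≃+* F) : ℕ → GL (Fin 2) F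
  | 0 => 1
  | i + 1 => g * GeneralLinearGroup.map e.toRingHom (twistPow g e i)

theorem twistPow_pow (g : GL (Fin 2) F) (e : RingAut F) (i : ℕ) :
    (conjSL g * fieldSL e) ^ i = conjSL (twistPow g e i) * fieldSL (e ^ i) := by
  induction i with
  | zero => rw [pow_zero, pow_zero, twistPow, map_one, fieldSL_one, one_mul]
  | succ i ih =>
    rw [pow_succ', ih, twistPow, map_mul, mul_assoc, ← mul_assoc (fieldSL e), fieldSL_conjSL, mul_assoc,
      fieldSL_mul, ← pow_succ', ← mul_assoc]

theorem twistPow_succ' (g : GL (Fin 2) F) (e : RingAut F) (i : ℕ) :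
    twistPow g e (i + 1) = twistPow g e i * GeneralLinearGroup.map (e ^ i : RingAut F).toRingHom g := by
  induction i with
  | zero => exact Units.ext (Matrix.ext fun a b => by simp [twistPow])
  | succ i ih =>
    conv_lhs => rw [twistPow, ih, map_mul, ← mul_assoc]
    rw [show GeneralLinearGroup.map e.toRingHom (GeneralLinearGroup.map (e ^ i : RingAut F).toRingHom g) =
      GeneralLinearGroup.map (e ^ (i + 1) : RingAut F).toRingHom g by
        rw [pow_succ']
        exact Units.ext (Matrix.ext fun a b => rfl)]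
    rfl

/-- **Speiser**: the fixed vectors of a semilinear map of the order of its field part span. -/
theorem fixed_span {V : Type*} [AddCommGroup V] [Module F V] (e : RingAut F) (φ : V → V) {r : ℕ}
    (hr : orderOf e = r) (hr0 : 0 < r) (hadd : ∀ v w, φ (v + w) = φ v + φ w)
    (hsmul : ∀ (c : F) v, φ (c • v) = e c • φ v) (hφ : ∀ v, φ^[r] v = v) (l : V →ₗ[F] F)
    (hl : ∀ v, φ v = v → l v = 0) (v : V) : l v = 0 := by
  classical
  have hit : ∀ (i : ℕ) (c : F) (w : V), φ^[i] (c • w) = (e ^ i) c • φ^[i] w := by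
    intro i
    induction i with
    | zero => intro c w; rfl
    | succ i ih =>
      intro c w
      rw [Function.iterate_succ_apply', Function.iterate_succ_apply', ih, hsmul, pow_succ']
      rfl
  let f : V →+ V := AddMonoidHom.mk' φ hadd
  have hfix : ∀ w : V, φ (∑ i ∈ Finset.range r, φ^[i] w) = ∑ i ∈ Finset.range r, φ^[i] w := fun w => by
    rw [show φ (∑ i ∈ Finset.range r, φ^[i] w) = ∑ i ∈ Finset.range r, φ^[i + 1] w by
      rw [show φ = f from rfl, map_sum]
      exact Finset.sum_congr rfl fun i _ => (Function.iterate_succ_apply' φ i w).symm]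
    have h1 := Finset.sum_range_succ (fun i => φ^[i] w) r
    rw [Finset.sum_range_succ', hφ, Function.iterate_zero, id_eq] at h1
    exact add_right_cancel h1
  have hzero : ∀ c : F, ∑ i : Fin r, (e ^ (i : ℕ)) c * l (φ^[i] v) = 0 := fun c => by
    have h1 := hl _ (hfix (c • v))
    rw [map_sum, ← Fin.sum_univ_eq_sum_range (fun i => l (φ^[i] (c • v)))] at h1
    refine Eq.trans (Finset.sum_congr rfl fun i _ => ?_) h1
    rw [hit, map_smul, smul_eq_mul]
  let ch : Fin r → (F →* F) := fun i => ((e ^ (i : ℕ) : RingAut F).toRingHom : F →* F)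
  have hinj : Function.Injective ch := fun i j hij => by
    refine Fin.ext (pow_injOn_Iio_orderOf (x := e) ?_ ?_ (RingEquiv.ext fun c => DFunLike.congr_fun hij c))
    · rw [Set.mem_Iio, hr]; exact i.2
    · rw [Set.mem_Iio, hr]; exact j.2
  have hli := (linearIndependent_monoidHom F F).comp ch hinj
  have := Fintype.linearIndependent_iff.1 hli (fun i => l (φ^[i] v)) (funext fun c => by
    rw [Finset.sum_apply, Pi.zero_apply, ← hzero c]
    exact Finset.sum_congr rfl fun i _ => mul_comm _ _) ⟨0, hr0⟩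
  simpa using this

/-- **An automorphism of the order of its field part is conjugate to the field automorphism.** -/
theorem exists_pure {g : GL (Fin 2) F} {e : RingAut F} {r : ℕ} (hr : orderOf e = r) (hodd : Odd r)
    (hφ : (conjSL g * fieldSL e) ^ r = 1) :
    ∃ u : GL (Fin 2) F, conjSL g * fieldSL e = conjSL u * fieldSL e * (conjSL u)⁻¹ := by
  obtain ⟨m, hm⟩ := hodd
  have her : e ^ r = 1 := hr ▸ pow_orderOf_eq_one e
  rw [twistPow_pow, her] at hφ
  obtain ⟨-, hG⟩ := semi_eq_one hφ
  set G := twistPow g e r with hGdef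
  set lam : F := G.1 0 0 with hlam
  have hlam0 : lam ≠ 0 := fun h => GW.Model.det_ne G (by rw [hG, h, zero_smul, Matrix.det_zero])
  have helam : e lam = lam := by
    have h1 : g * GeneralLinearGroup.map e.toRingHom G = G * g := by
      rw [show g * GeneralLinearGroup.map e.toRingHom G = twistPow g e (r + 1) from rfl, twistPow_succ', her]
      exact congrArg (G * ·) (Units.ext (Matrix.ext fun _ _ => rfl))
    have h2 : g.1 * G.1.map e = G.1 * g.1 := congrArg Units.val h1
    rw [hG, Matrix.smul_mul, one_mul] at h2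
    have hmap : (lam • (1 : M2)).map e = e lam • (1 : M2) := by
      ext i j; by_cases hij : i = j <;> simp [Matrix.one_apply, hij]
    rw [hmap, Matrix.mul_smul, mul_one] at h2
    have hne : g.1 ≠ 0 := fun h => GW.Model.det_ne g (by rw [h, Matrix.det_zero])
    exact smul_left_injective F hne h2
  set c : F := g.1.det ^ m / lam with hc
  have hd0 : g.1.det ≠ 0 := GW.Model.det_ne g
  have hc0 : c ≠ 0 := div_ne_zero (pow_ne_zero _ hd0) hlam0
  set g' : M2 := c • g.1 with hg'
  let φ : (Fin 2 → F) → (Fin 2 → F) := fun v => g' *ᵥ (e ∘ v)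
  have hpow : ∀ (i : ℕ) (v : Fin 2 → F), φ^[i] v =
      (((twistPow g e i).1.det ^ m / lam ^ i) • (twistPow g e i).1) *ᵥ ((e ^ i : RingAut F) ∘ v) := by
    intro i
    induction i with
    | zero => intro v; simp [twistPow]
    | succ i ih =>
      intro v
      rw [Function.iterate_succ_apply', ih]
      show g' *ᵥ (e ∘ (_ *ᵥ _)) = _
      rw [show (e ∘ ((((twistPow g e i).1.det ^ m / lam ^ i) • (twistPow g e i).1) *ᵥ ((e ^ i : RingAut F) ∘ v))) =
        ((((twistPow g e i).1.det ^ m / lam ^ i) • (twistPow g e i).1).map e) *ᵥ (e ∘ ((e ^ i : RingAut F) ∘ v))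
        from funext fun k => RingHom.map_mulVec e.toRingHom _ _ k, Matrix.mulVec_mulVec]
      have hv : e ∘ ((e ^ i : RingAut F) ∘ v) = (e ^ (i + 1) : RingAut F) ∘ v := by
        rw [pow_succ']; rfl
      rw [hv]
      congr 1
      have hval : (twistPow g e (i + 1)).1 = g.1 * (twistPow g e i).1.map e := rfl
      rw [Matrix.map_smul' _ _ _ (map_mul e), hval, hg', Matrix.smul_mul, Matrix.mul_smul, smul_smul, hc,
        Matrix.det_mul]
      congr 1
      rw [show (twistPow g e i).1.map e = e.toRingHom.mapMatrix (twistPow g e i).1 from rfl, ← RingHom.map_det,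
        map_div₀, map_pow, map_pow, helam]
      show _ = (g.1.det * e (twistPow g e i).1.det) ^ m / lam ^ (i + 1)
      rw [div_mul_div_comm, mul_pow, pow_succ']
  have hφr : ∀ v, φ^[r] v = v := fun v => by
    rw [hpow, her, ← hGdef, hG, show ((1 : RingAut F) : F → F) = id from rfl, Function.id_comp]
    have h1 : (lam • (1 : M2)).det ^ m / lam ^ r * lam = 1 := by
      rw [Matrix.det_smul, Matrix.det_one, mul_one, Fintype.card_fin, ← pow_mul, hm, pow_succ]
      field_simp
    rw [smul_smul, h1, one_smul, Matrix.one_mulVec]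
  have hspan := fixed_span e φ hr (by omega) (fun v w => by
      show g' *ᵥ (e ∘ (v + w)) = _
      rw [show e ∘ (v + w) = e ∘ v + e ∘ w from funext fun k => map_add e _ _, Matrix.mulVec_add])
    (fun a v => by
      show g' *ᵥ (e ∘ (a • v)) = _
      rw [show e ∘ (a • v) = e a • (e ∘ v) from funext fun k => map_mul e _ _, Matrix.mulVec_smul]) hφr
  obtain ⟨w, hw, hw0⟩ : ∃ w, φ w = w ∧ w 0 ≠ 0 := by
    by_contra h
    push Not at h
    exact one_ne_zero (α := F) (by simpa using hspan (LinearMap.proj 0) (fun v hv => h v hv) ![1, 0])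
  let D : (Fin 2 → F) →ₗ[F] F := w 0 • LinearMap.proj 1 - w 1 • LinearMap.proj 0
  obtain ⟨x, hx, hD⟩ : ∃ x, φ x = x ∧ D x ≠ 0 := by
    by_contra h
    push Not at h
    exact hw0 (by simpa [D] using hspan D (fun v hv => h v hv) ![0, 1])
  obtain ⟨u, hu⟩ : ∃ u : GL (Fin 2) F, g' * u.1.map e = u.1 := by
    refine ⟨Matrix.GeneralLinearGroup.mkOfDetNeZero !![w 0, x 0; w 1, x 1] (by
      rw [Matrix.det_fin_two_of]
      intro h
      exact hD (by simp [D]; linear_combination h)), ?_⟩
    have hk : ∀ (v : Fin 2 → F) (k : Fin 2), φ v k = g' k 0 * e (v 0) + g' k 1 * e (v 1) := fun v k => by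
      show (g' *ᵥ (e ∘ v)) k = _
      simp [Matrix.mulVec, dotProduct, Fin.sum_univ_two]
    show g' * (!![w 0, x 0; w 1, x 1] : M2).map e = !![w 0, x 0; w 1, x 1]
    ext k l
    fin_cases k <;> fin_cases l <;> simp [Matrix.mul_apply, Fin.sum_univ_two, ← hk, hw, hx]
  refine ⟨u, ?_⟩
  set g₁ : GL (Fin 2) F := u * (GeneralLinearGroup.map e.toRingHom u)⁻¹ with hg₁
  have hgg : g₁.1 = c • g.1 := by
    rw [hg₁, Units.val_mul, ← hu, hg', Matrix.mul_assoc]
    rw [show u.1.map e = (GeneralLinearGroup.map e.toRingHom u).1 from rfl, Units.mul_inv, mul_one]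
  rw [← conjSL_smul hgg hc0, hg₁, map_mul, map_inv, eq_mul_inv_iff_mul_eq, mul_assoc, fieldSL_conjSL,
    ← mul_assoc, inv_mul_cancel_right]

/-- The points fixed by a field automorphism. -/
noncomputable def fixSL (e : F ≃+* F) : Subgroup SL :=
  (SpecialLinearGroup.map (n := Fin 2) (GW.Model.fixField e).subtype).range

theorem mem_fixSL {e : F ≃+* F} {A : SL} : A ∈ fixSL e ↔ fieldSL e A = A := by
  constructor
  · rintro ⟨B, rfl⟩
    exact Subtype.ext (Matrix.ext fun i j => GW.Model.fix_coe (B.1 i j))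
  · intro h
    have hm : ∀ i j, A.1 i j ∈ GW.Model.fixField e := fun i j =>
      GW.Model.mem_fixField.2 (congrFun (congrFun (congrArg Subtype.val h) i) j)
    refine ⟨⟨Matrix.of fun i j => (⟨A.1 i j, hm i j⟩ : GW.Model.fixField e), Subtype.ext ?_⟩,
      Subtype.ext (Matrix.ext fun i j => rfl)⟩
    have hd := A.2
    rw [Matrix.det_fin_two] at hd ⊢
    push_cast
    simpa using hd

theorem uSL_mem_fixSL (e : F ≃+* F) : uSL (1 : F) ∈ fixSL e :=
  mem_fixSL.2 (Subtype.ext (by rw [fieldSL_val]; ext i j; fin_cases i <;> fin_cases j <;> simp [coe_uSL]))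

theorem vSL_mem_fixSL (e : F ≃+* F) : vSL (1 : F) ∈ fixSL e :=
  mem_fixSL.2 (Subtype.ext (by rw [fieldSL_val]; ext i j; fin_cases i <;> fin_cases j <;> simp [coe_vSL]))

/-- A conjugation fixing the fixed points is trivial. -/
theorem scalar_of_fix_fixSL (e : F ≃+* F) {g : GL (Fin 2) F} (h : ∀ A ∈ fixSL e, conjSL g A = A) :
    g.1 = g.1 0 0 • (1 : M2) :=
  scalar_of_fix_uv (comm_of_conjSL (h _ (uSL_mem_fixSL e))) (comm_of_conjSL (h _ (vSL_mem_fixSL e)))

/-- An automorphism fixing the fixed points is a field automorphism fixing the fixed field. -/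
theorem field_of_fix_fixSL (e f : F ≃+* F) {g : GL (Fin 2) F}
    (h : ∀ A ∈ fixSL e, (conjSL g * fieldSL f) A = A) :
    conjSL g = 1 ∧ ∀ t, e t = t → f t = t := by
  have hfu : fieldSL f (uSL 1) = uSL 1 :=
    Subtype.ext (by rw [fieldSL_val]; ext i j; fin_cases i <;> fin_cases j <;> simp [coe_uSL])
  have hfv : fieldSL f (vSL 1) = vSL 1 :=
    Subtype.ext (by rw [fieldSL_val]; ext i j; fin_cases i <;> fin_cases j <;> simp [coe_vSL])
  have hu := h _ (uSL_mem_fixSL e)
  have hv := h _ (vSL_mem_fixSL e)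
  rw [MulAut.mul_apply, hfu] at hu
  rw [MulAut.mul_apply, hfv] at hv
  have hg := conjSL_scalar (scalar_of_fix_uv (comm_of_conjSL hu) (comm_of_conjSL hv))
  refine ⟨hg, fun t ht => ?_⟩
  have h' := h (uSL t) (mem_fixSL.2 (Subtype.ext (by
    rw [fieldSL_val]; ext i j; fin_cases i <;> fin_cases j <;> simp [coe_uSL, ht])))
  rw [hg, one_mul] at h'
  simpa [fieldSL_val, coe_uSL] using congrFun (congrFun (congrArg Subtype.val h') 0) 1

/-- **A conjugation commuting with the field automorphism is by a matrix over the fixed field.** -/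
theorem over_fix {h : GL (Fin 2) F} {e : F ≃+* F} (hc : Commute (conjSL h) (fieldSL e)) :
    ∃ h0 : GL (Fin 2) F, conjSL h0 = conjSL h ∧ h0.1.map e = h0.1 := by
  have h1 : conjSL (GeneralLinearGroup.map e.toRingHom h) = conjSL h := by
    have := fieldSL_conjSL e h
    rw [← hc.eq] at this
    exact (mul_right_cancel this).symm
  have h2 : conjSL (h⁻¹ * GeneralLinearGroup.map e.toRingHom h) * fieldSL (RingEquiv.refl F) = 1 := by
    rw [map_mul, map_inv, h1, inv_mul_cancel, one_mul]
    exact fieldSL_one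
  obtain ⟨-, hs⟩ := semi_eq_one h2
  set l := (h⁻¹ * GeneralLinearGroup.map e.toRingHom h).1 0 0
  have he : h.1.map e = l • h.1 := by
    rw [Units.val_mul] at hs
    calc h.1.map e = h.1 * ((h⁻¹).1 * h.1.map e) := by rw [← Matrix.mul_assoc, Units.mul_inv, one_mul]
      _ = l • h.1 := by
        rw [show (h⁻¹).1 * h.1.map e = (h⁻¹).1 * (GeneralLinearGroup.map e.toRingHom h).1 from rfl, hs,
          Matrix.mul_smul, mul_one]
  obtain ⟨k, j, hkj⟩ : ∃ k j, h.1 k j ≠ 0 := by
    by_contra hn
    push Not at hn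
    exact GW.Model.det_ne h (by rw [show h.1 = 0 from Matrix.ext hn, Matrix.det_zero])
  have hek : e (h.1 k j) = l * h.1 k j := congrFun (congrFun he k) j
  have hl : l ≠ 0 := fun h0 => hkj (e.injective (by rw [hek, h0, zero_mul, map_zero]))
  refine ⟨Matrix.GeneralLinearGroup.mkOfDetNeZero ((h.1 k j)⁻¹ • h.1) (by
    rw [Matrix.det_smul]
    exact mul_ne_zero (pow_ne_zero _ (inv_ne_zero hkj)) (GW.Model.det_ne h)), conjSL_smul rfl (inv_ne_zero hkj), ?_⟩
  show ((h.1 k j)⁻¹ • h.1).map e = (h.1 k j)⁻¹ • h.1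
  ext a b
  have hab : e (h.1 a b) = l * h.1 a b := congrFun (congrFun he a) b
  simp [map_inv₀, hek, hab]
  field_simp

/-- A square of the fixed field is one there, the automorphism having odd order. -/
theorem sqrt_fix {e : RingAut F} (hodd : Odd (orderOf e)) {x : F} (hx : e x = x) (h : IsSquare x) :
    ∃ s : F, e s = s ∧ s * s = x := by
  obtain ⟨s, rfl⟩ := h
  refine ⟨s, ?_, rfl⟩
  rw [map_mul] at hx
  rcases mul_self_eq_mul_self_iff.1 hx with h | h
  · exact h
  · have hp : ∀ i : ℕ, (e ^ i) s = (-1 : F) ^ i * s := by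
      intro i
      induction i with
      | zero => simp
      | succ i ih =>
        rw [pow_succ', show (e * e ^ i) s = e ((e ^ i) s) from rfl, ih, map_mul, map_pow, map_neg, map_one, h,
          pow_succ]
        ring
    have h1 := hp (orderOf e)
    rw [pow_orderOf_eq_one, hodd.neg_one_pow, neg_one_mul] at h1
    rw [h]
    exact h1.symm

end CfsgLib.RankTwoModel.SL2
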