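import Cfsg.Agent.Lib.RankTwoModel.Invol
import Cfsg.Agent.Lib.RankTwoModel.FieldElem.Fixed

/-!
The kernel of the action of `C` on `SL₂(q)` for semidihedral Sylow subgroups.

* `Rep.sigma_kernel`: it is `⟨z⟩ O`;
* `Rep.outer`: an involution other than `z` is conjugation by a matrix of non-square determinant;
* `Rep.conjGL`: change of coordinates by `GL₂`.
-/

set_option autoImplicit false
set_option linter.unusedSectionVars false

namespace CfsgLib.RankTwoModel

open Cfsg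
open scoped MatrixGroups

universe u

variable {G : Type u} [Group G] [Finite G] {d : Frame G}

local notation "SL[" d "]" => Matrix.SpecialLinearGroup (Fin 2) (Frame.F d)

/-- A change of coordinates by `GL₂`. -/
noncomputable def Rep.conjGL (R : Rep d) (g : GL (Fin 2) d.F) : Rep d where
  π := (PSL2.conjSL g).toMonoidHom.comp R.π
  surj := (PSL2.conjSL g).surjective.comp R.surj
  ker x := by
    rw [MonoidHom.comp_apply, MulEquiv.coe_toMonoidHom, EmbeddingLike.map_eq_one_iff]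
    exact R.ker x
  σ := (MulAut.conj (PSL2.conjSL g)).toMonoidHom.comp R.σ
  compat c x := by
    show (PSL2.conjSL g * R.σ c * (PSL2.conjSL g)⁻¹) (PSL2.conjSL g (R.π x)) = _
    rw [MulAut.mul_apply, MulAut.mul_apply, MulAut.inv_apply_self, R.compat]
    rfl

theorem Rep.conjGL_sigma (R : Rep d) (g : GL (Fin 2) d.F) (c : ↥d.C) :
    (R.conjGL g).σ c = PSL2.conjSL g * R.σ c * (PSL2.conjSL g)⁻¹ := rfl

variable (R : Rep d) (hd : d.Spec) (hq : 3 < d.q)

include hd in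
/-- The centre of a semidihedral Sylow subgroup. -/
theorem Frame.Spec.center_sd (hsd : IsQuasiDihedral (d.S : Subgroup G)) {s : G} (hs : s ∈ (d.S : Subgroup G))
    (hc : ∀ r ∈ (d.S : Subgroup G), r * s = s * r) : s = 1 ∨ s = d.z := by
  by_cases h1 : s = 1
  · exact Or.inl h1
  obtain ⟨-, -, -, dd, -⟩ := CfsgLib.QD.exists_data hsd
  have hmem : (⟨s, hs⟩ : (d.S : Subgroup G)) ∈ Subgroup.center (d.S : Subgroup G) :=
    Subgroup.mem_center_iff.mpr fun r => Subtype.ext (hc r r.2)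
  rw [CfsgLib.QD.center_eq_zpowers dd] at hmem
  have h2 : (⟨s, hs⟩ : (d.S : Subgroup G)) ^ 2 = 1 := by
    obtain ⟨k, hk⟩ := Subgroup.mem_zpowers_iff.1 hmem
    have hz2 : dd.z ^ 2 = 1 := orderOf_dvd_iff_pow_eq_one.1 (dvd_of_eq (CfsgLib.QD.orderOf_z dd))
    rw [← hk, ← zpow_natCast, ← zpow_mul, mul_comm k, zpow_mul, zpow_natCast, hz2, one_zpow]
  exact Or.inr (hd.center_invol hs (orderOf_eq_prime (by simpa using congrArg Subtype.val h2) h1) hc)

include hd hq in
/-- **The kernel of the action is `⟨z⟩ O`.** -/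
theorem Rep.sigma_kernel (h : Hyp G) (hsd : IsQuasiDihedral (d.S : Subgroup G))
    {c : G} (hc : c ∈ d.C) (h1 : R.σ ⟨c, hc⟩ = 1) :
    ∃ o ∈ d.O, c = o ∨ c = d.z * o := by
  haveI : Fact (Nat.Prime 2) := ⟨Nat.prime_two⟩
  set π := QuotientGroup.mk' (oddCore ↥d.C) with hπ
  have hSC : (d.S : Subgroup G) ≤ d.C := fun s hs => Subgroup.mem_centralizer_singleton_iff.mpr (hd.zc s hs)
  set S' : Subgroup ↥d.C := (d.S : Subgroup G).subgroupOf d.C with hS'
  obtain ⟨k, m, hm, hn⟩ := Nat.exists_eq_two_pow_mul_odd (orderOf_pos c).ne'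
  set cc : ↥d.C := ⟨c, hc⟩
  have hcen := R.central_of_sigma hd hq h hc h1
  -- the two-part lies in `S O`
  set t := cc ^ m with ht
  have ht2 : t ^ 2 ^ k = 1 := Subtype.ext (by
    show (c ^ m) ^ 2 ^ k = 1
    rw [← pow_mul, mul_comm, ← hn, pow_orderOf_eq_one])
  have htc : π t ∈ Subgroup.center (↥d.C ⧸ oddCore ↥d.C) := by rw [ht, map_pow]; exact pow_mem hcen m
  have hK : IsPGroup 2 (Subgroup.zpowers (π t)) := by
    obtain ⟨j, -, hj⟩ := (Nat.dvd_prime_pow Nat.prime_two).mp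
      (orderOf_dvd_of_pow_eq_one (show π t ^ 2 ^ k = 1 by rw [← map_pow, ht2, map_one]))
    exact IsPGroup.of_card (n := j) (by rw [Nat.card_zpowers, hj])
  let P' : Sylow 2 ↥d.C := d.S.subtype hSC
  let Q := P'.mapSurjective (QuotientGroup.mk'_surjective (oddCore ↥d.C))
  have hsup : IsPGroup 2 ↥((Q : Subgroup _) ⊔ Subgroup.zpowers (π t)) :=
    Q.2.to_sup_of_normal_left' hK (Subgroup.zpowers_le.2 (Subgroup.mem_normalizer_fintype fun x hx => by
      rw [← Subgroup.mem_center_iff.1 htc x, mul_inv_cancel_right]; exact hx))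
  have htQ : π t ∈ (Q : Subgroup _) :=
    (Q.3 hsup le_sup_left).le (Subgroup.mem_sup_right (Subgroup.mem_zpowers _))
  obtain ⟨s, hs, hst⟩ := htQ
  have hsS : (s : G) ∈ (d.S : Subgroup G) := hs
  have hinj : ∀ a : ↥d.C, (a : G) ∈ (d.S : Subgroup G) → π a = 1 → a = 1 := fun a ha ha1 => by
    obtain ⟨j, hj⟩ := d.S.2 ⟨a, ha⟩
    have hj' : (a : G) ^ 2 ^ j = 1 := congrArg Subtype.val hj
    refine Subtype.ext (orderOf_eq_one_iff.1 (Nat.eq_one_of_dvd_coprimes
      ((Nat.coprime_two_left.mpr d.O_odd).pow_left j) (orderOf_dvd_of_pow_eq_one hj')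
      (Subgroup.orderOf_dvd_natCard _ (show (a : G) ∈ d.O from ⟨a, (QuotientGroup.eq_one_iff (N := oddCore ↥d.C) a).1 ha1, rfl⟩))))
  have hsc : ∀ r ∈ (d.S : Subgroup G), r * (s : G) = (s : G) * r := fun r hr => by
    set rr : ↥d.C := ⟨r, hSC hr⟩
    have h2 := hinj (rr * s * rr⁻¹ * s⁻¹)
      (mul_mem (mul_mem (mul_mem hr hsS) (inv_mem hr)) (inv_mem hsS)) (by
        rw [map_mul, map_mul, map_mul, map_inv, map_inv, show π s = π t from hst, Subgroup.mem_center_iff.1 htc (π rr),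
          mul_inv_cancel_right, mul_inv_cancel])
    exact mul_inv_eq_iff_eq_mul.1 (mul_inv_eq_one.1 (congrArg Subtype.val h2))
  -- the odd part
  obtain ⟨j, hj⟩ := hm
  have hsz : (s : G) = 1 ∨ (s : G) = d.z := hd.center_sd hsd hsS hsc
  have hs2 : s * s = 1 := Subtype.ext (by
    show (s : G) * (s : G) = 1
    rcases hsz with e | e <;> rw [e]
    · exact one_mul 1
    · exact BG.invol_mul_self hd.zord)
  have hq2 : π (cc ^ 2) ^ m = 1 := by
    rw [← map_pow, ← pow_mul, mul_comm, pow_mul, ← ht, map_pow, ← show π s = π t from hst, sq, ← map_mul, hs2,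
      map_one]
  have hodd2 : π (cc ^ 2) = 1 := Frame.central_odd (by rw [map_pow]; exact pow_mem hcen 2)
    ((Odd.of_dvd_nat ⟨j, hj⟩ (orderOf_dvd_of_pow_eq_one hq2)))
  have hcs : π cc = π s := by
    rw [show π s = π t from hst, ht, hj, pow_succ, pow_mul, map_mul, map_pow, hodd2, one_pow, one_mul]
  have hmem : cc * s⁻¹ ∈ oddCore ↥d.C := (QuotientGroup.eq_one_iff _).1 (by
    show π (cc * s⁻¹) = 1
    rw [map_mul, map_inv, hcs, mul_inv_cancel])
  have hO' : c * (s : G)⁻¹ ∈ d.O := ⟨_, hmem, rfl⟩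
  rcases hsz with e | e
  · exact ⟨c, by rwa [e, inv_one, mul_one] at hO', Or.inl rfl⟩
  · refine ⟨d.z⁻¹ * c, ?_, Or.inr (by group)⟩
    rw [e] at hO'
    rwa [show d.z⁻¹ * c = c * d.z⁻¹ from ((show Commute c d.z from Frame.Spec.z_central hc).inv_right).symm.eq]

include hd hq in
/-- The determinant of an involution other than `z` is not a square. -/
theorem Rep.outer (h : Hyp G) (hsd : IsQuasiDihedral (d.S : Subgroup G)) {i : G} (hiC : i ∈ d.C) (hi : orderOf i = 2) (hiz : i ≠ d.z)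
    {g : GL (Fin 2) d.F} (hg : R.σ ⟨i, hiC⟩ = PSL2.conjSL g) : ¬ IsSquare g.1.det := by
  rintro ⟨s, hs⟩
  have hs0 : s ≠ 0 := fun e => GW.Model.det_ne g (by rw [hs, e, zero_mul])
  let A : SL[d] := ⟨s⁻¹ • g.1, by
    rw [Matrix.det_smul, hs, Fintype.card_fin]
    field_simp⟩
  obtain ⟨x, hx⟩ := R.surj A
  have hσA : R.σ ⟨x, d.L_le x.2⟩ = PSL2.conjSL g := by
    rw [show PSL2.conjSL g = PSL2.conjSL (Matrix.SpecialLinearGroup.toGL A) from
      (SL2.conjSL_smul (c := s⁻¹) rfl (inv_ne_zero hs0)).symm]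
    refine MulEquiv.ext fun B => Subtype.ext ?_
    rw [R.sigma_inner, hx, PSL2.coe_conjSL, ← map_inv]
    rfl
  obtain ⟨o, ho, e⟩ := R.sigma_kernel hd hq h hsd (mul_mem (inv_mem (d.L_le x.2)) hiC) (by
    show R.σ (⟨x, d.L_le x.2⟩⁻¹ * ⟨i, hiC⟩) = 1
    rw [map_mul, map_inv, hσA, hg, inv_mul_cancel])
  refine hd.invol_not_mem hi hiz ?_
  rcases e with e | e <;> rw [eq_mul_of_inv_mul_eq e]
  · exact mul_mem x.2 (d.O_le_L ho)
  · exact mul_mem x.2 (mul_mem hd.z_mem_L (d.O_le_L ho))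

end CfsgLib.RankTwoModel
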