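import Cfsg.Agent.Lib.RankTwoModel.CMax.Model
import Cfsg.Agent.Lib.RankTwoModel.Rows.Squares
import Cfsg.Agent.Lib.RankTwo.Weights
import Cfsg.Agent.Lib.GW.Conseq.Basic
import Cfsg.Agent.Lib.CoprimeGen

/-!
Generic facts for counting the involutions fixed by a field element.

* `card_invol_eq_index`, `card_invol_modEq`: the involutions of a single class, and those fixed by an `r`-element;
* `conj_of_quotient`: conjugacy of involutions lifts over an odd normal subgroup;
* `sq_eq_of_quotient`: commuting elements of order four of a quotient by an odd normal subgroup;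
* `invol_pair`: two involutions are conjugate or commute with a third one.
-/

set_option autoImplicit false
set_option linter.unusedSectionVars false
set_option linter.style.haveILetI false

namespace CfsgLib.RankTwoModel.FieldElem

open Cfsg

universe u v

variable {Γ : Type u} [Group Γ] [Finite Γ]

/-- A class of involutions has the size of the index of a centraliser. -/
theorem card_invol_eq_index {a : Γ} (ha : orderOf a = 2)
    (hall : ∀ c : Γ, orderOf c = 2 → ∃ g : Γ, g * a * g⁻¹ = c) :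
    Nat.card {c : Γ // orderOf c = 2} = (Subgroup.centralizer ({a} : Set Γ)).index := by
  set C := Subgroup.centralizer ({a} : Set Γ)
  have hmk : ∀ g : Γ, orderOf (g * a * g⁻¹) = 2 := fun g =>
    (MulEquiv.orderOf_eq (MulAut.conj g) a).trans ha
  have hiff : ∀ g g' : Γ, g * a * g⁻¹ = g' * a * g'⁻¹ ↔ g⁻¹ * g' ∈ C := fun g g' => by
    rw [Subgroup.mem_centralizer_singleton_iff]
    constructor
    · intro e
      calc g⁻¹ * g' * a = g⁻¹ * (g' * a * g'⁻¹) * g' := by group
        _ = g⁻¹ * (g * a * g⁻¹) * g' := by rw [e]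
        _ = a * (g⁻¹ * g') := by group
    · intro e
      calc g * a * g⁻¹ = g * (a * (g⁻¹ * g')) * g'⁻¹ := by group
        _ = g * (g⁻¹ * g' * a) * g'⁻¹ := by rw [e]
        _ = g' * a * g'⁻¹ := by group
  rw [Subgroup.index_eq_card]
  refine (Nat.card_eq_of_bijective (fun q : Γ ⧸ C => Quotient.liftOn' q
    (fun g => (⟨g * a * g⁻¹, hmk g⟩ : {c : Γ // orderOf c = 2}))
    (fun g g' e => Subtype.ext ((hiff g g').2 (QuotientGroup.leftRel_apply.1 e)))) ⟨?_, ?_⟩).symm
  · rintro ⟨g⟩ ⟨g'⟩ e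
    exact QuotientGroup.eq.2 ((hiff g g').1 (congrArg Subtype.val e))
  · rintro ⟨c, hc⟩
    obtain ⟨g, hg⟩ := hall c hc
    exact ⟨QuotientGroup.mk g, Subtype.ext hg⟩

/-- An `r`-element fixes as many involutions as there are, modulo `r`. -/
theorem card_invol_modEq {r : ℕ} [Fact r.Prime] {b : Γ} {k : ℕ} (hb : b ^ r ^ k = 1) :
    Nat.card {c : Γ // orderOf c = 2} ≡ Nat.card {c : Γ // orderOf c = 2 ∧ Commute b c} [MOD r] := by
  letI : MulAction ↥(Subgroup.zpowers b) {c : Γ // orderOf c = 2} :=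
    { smul := fun p c => ⟨(p : Γ) * c * (p : Γ)⁻¹, (MulEquiv.orderOf_eq (MulAut.conj (p : Γ)) c.1).trans c.2⟩
      one_smul := fun c => Subtype.ext (by show ((1 : Γ) * c * (1 : Γ)⁻¹) = c; group)
      mul_smul := fun p p' c => Subtype.ext (by
        show ((p : Γ) * p' * c * ((p : Γ) * p')⁻¹) = (p : Γ) * ((p' : Γ) * c * (p' : Γ)⁻¹) * (p : Γ)⁻¹
        group) }
  have hP : IsPGroup r ↥(Subgroup.zpowers b) :=
    IsPGroup.of_card_dvd_pow (n := k) (by rw [Nat.card_zpowers]; exact orderOf_dvd_of_pow_eq_one hb)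
  refine (hP.card_modEq_card_fixedPoints {c : Γ // orderOf c = 2}).trans ?_
  let e : ↥(MulAction.fixedPoints ↥(Subgroup.zpowers b) {c : Γ // orderOf c = 2}) ≃
      {c : Γ // orderOf c = 2 ∧ Commute b c} :=
    { toFun := fun c => ⟨c.1.1, c.1.2, mul_inv_eq_iff_eq_mul.1
        (congrArg Subtype.val (c.2 ⟨b, Subgroup.mem_zpowers b⟩) :)⟩
      invFun := fun c => ⟨⟨c.1, c.2.1⟩, fun p => Subtype.ext (by
        obtain ⟨i, hi⟩ := Subgroup.mem_zpowers_iff.1 p.2
        show (p : Γ) * c.1 * (p : Γ)⁻¹ = c.1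
        rw [← hi, (c.2.2.zpow_left i).eq, mul_inv_cancel_right])⟩
      left_inv := fun _ => rfl
      right_inv := fun _ => rfl }
  rw [Nat.card_congr e]

/-- Conjugacy of involutions lifts over an odd normal subgroup, with the same image. -/
theorem conj_of_quotient (N : Subgroup Γ) [N.Normal] (hN : Odd (Nat.card N)) {a c : Γ} (ha : orderOf a = 2)
    (hc : orderOf c = 2) {g : Γ} (hg : QuotientGroup.mk' N (g * a * g⁻¹) = QuotientGroup.mk' N c) :
    ∃ k : Γ, k * g⁻¹ ∈ N ∧ k * a * k⁻¹ = c := by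
  have hcc : c * c = 1 := BG.invol_mul_self hc
  haveI := Fintype.ofFinite Γ
  have he : c⁻¹ * (g * a * g⁻¹) ∈ N := QuotientGroup.eq.1 hg.symm
  obtain ⟨b, hbN, e, he', hec, hbe⟩ := CfsgLib.RankTwo.coset_conj N hN hcc
    (fun x hx => (inferInstance : N.Normal).conj_mem x hx c) he
  rw [mul_inv_cancel_left] at hbe
  have he1 : e = 1 := by
    have h1 : (c * e) * (c * e) = 1 := by
      rw [← hbe, show b * (g * a * g⁻¹) * b⁻¹ * (b * (g * a * g⁻¹) * b⁻¹) = b * (g * (a * a) * g⁻¹) * b⁻¹ by group,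
        BG.invol_mul_self ha]
      group
    rw [mul_assoc c e, ← mul_assoc e, hec, mul_assoc c e e, ← mul_assoc c c, hcc, one_mul] at h1
    by_contra hne
    exact BG.not_mem_of_odd hN (orderOf_eq_prime (by rw [pow_two, h1]) hne) he'
  rw [he1, mul_one] at hbe
  exact ⟨b * g, by rwa [mul_inv_cancel_right], by rw [← hbe]; group⟩

/-- Commuting elements of order four of a quotient by an odd normal subgroup. -/
theorem sq_eq_of_quotient (N : Subgroup Γ) [N.Normal] (hN : Odd (Nat.card N)) {G : Type v} [Group G] [Finite G]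
    (ι : Γ →* G) (hι : Function.Injective ι) (S : Sylow 2 G) (hS : IsQuasiDihedral (S : Subgroup G))
    {a b : Γ ⧸ N} (ha : orderOf a = 4) (hb : orderOf b = 4) (hab : Commute a b) : a * a = b * b := by
  haveI : Fact (Nat.Prime 2) := ⟨Nat.prime_two⟩
  have hp : ∀ {c : Γ ⧸ N}, orderOf c = 4 → IsPGroup 2 (Subgroup.zpowers c) := fun {c} hc =>
    IsPGroup.of_card (n := 2) (by rw [Nat.card_zpowers, hc]; rfl)
  have hT : IsPGroup 2 ↥(Subgroup.zpowers a ⊔ Subgroup.zpowers b) :=
    IsPGroup.to_sup_of_normal_right' (hp ha) (hp hb) (by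
      rw [Subgroup.zpowers_le]
      refine Subgroup.mem_normalizer_fintype fun y hy => ?_
      obtain ⟨i, rfl⟩ := Subgroup.mem_zpowers_iff.1 hy
      rw [(hab.zpow_right i).eq, mul_inv_cancel_right]
      exact Subgroup.zpow_mem_zpowers b i)
  obtain ⟨Q, hQ⟩ := hT.exists_le_sylow
  obtain ⟨T⟩ : Nonempty (Sylow 2 Γ) := inferInstance
  obtain ⟨eT⟩ := CfsgLib.GWConseq.sylow_quotient_odd N hN T
  let e := (Sylow.equiv Q (T.mapSurjective (QuotientGroup.mk'_surjective N))).trans eT.symm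
  let f : (Q : Subgroup (Γ ⧸ N)) →* G := ι.comp ((T : Subgroup Γ).subtype.comp e.toMonoidHom)
  have hf : Function.Injective f := hι.comp ((T : Subgroup Γ).subtype_injective.comp e.injective)
  have haQ : a ∈ (Q : Subgroup (Γ ⧸ N)) := hQ (Subgroup.mem_sup_left (Subgroup.mem_zpowers a))
  have hbQ : b ∈ (Q : Subgroup (Γ ⧸ N)) := hQ (Subgroup.mem_sup_right (Subgroup.mem_zpowers b))
  have h := Rows.no_two_squares S hS (a := f ⟨a, haQ⟩) (b := f ⟨b, hbQ⟩)
    (by rw [orderOf_injective f hf, Subgroup.orderOf_mk, ha])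
    (by rw [orderOf_injective f hf, Subgroup.orderOf_mk, hb])
    ((show Commute (⟨a, haQ⟩ : (Q : Subgroup (Γ ⧸ N))) ⟨b, hbQ⟩ from Subtype.ext hab.eq).map f)
  rw [← map_mul, ← map_mul] at h
  exact congrArg Subtype.val (hf h)

/-- Two involutions are conjugate, or a third one commutes with both. -/
theorem invol_pair {z c : Γ} (hz : orderOf z = 2) (hc : orderOf c = 2) :
    (∃ i : ℕ, (z * c) ^ i * z * ((z * c) ^ i)⁻¹ = c) ∨
      ∃ i : ℕ, orderOf ((z * c) ^ i) = 2 ∧ Commute z ((z * c) ^ i) ∧ Commute c ((z * c) ^ i) := by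
  set s := z * c with hs
  have hzz : z * z = 1 := BG.invol_mul_self hz
  have hcc : c * c = 1 := BG.invol_mul_self hc
  have hzi : z⁻¹ = z := inv_eq_of_mul_eq_one_right hzz
  have hci : c⁻¹ = c := inv_eq_of_mul_eq_one_right hcc
  have hinv : z * s * z⁻¹ = s⁻¹ := by
    rw [hs, mul_inv_rev, hci, hzi, ← mul_assoc, hzz, one_mul]
  have hn : 0 < orderOf s := orderOf_pos s
  rcases Nat.even_or_odd (orderOf s) with ⟨j, hj⟩ | ⟨j, hj⟩
  · right
    have hj0 : j ≠ 0 := by omega
    have hjo : orderOf (s ^ j) = 2 := by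
      rw [orderOf_pow_of_dvd hj0 ⟨2, by omega⟩, hj, ← two_mul, Nat.mul_div_cancel _ (Nat.pos_of_ne_zero hj0)]
    have hzc : Commute z (s ^ j) := by
      refine mul_inv_eq_iff_eq_mul.1 ?_
      rw [← conj_pow, hinv, inv_pow, inv_eq_of_mul_eq_one_right (BG.invol_mul_self hjo)]
    refine ⟨j, hjo, hzc, ?_⟩
    rw [show c = z * s by rw [hs, ← mul_assoc, hzz, one_mul]]
    exact hzc.mul_left ((Commute.refl s).pow_right j)
  · left
    refine ⟨j, ?_⟩
    have h1 : z * (s ^ j)⁻¹ = s ^ j * z := by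
      rw [← inv_pow, ← hinv, conj_pow]
      conv_lhs => rw [hzi, ← mul_assoc, ← mul_assoc, hzz, one_mul]
    have h2 : s * (s ^ j * s ^ j) = 1 := by
      rw [← pow_add, ← pow_succ', show j + j + 1 = orderOf s by omega, pow_orderOf_eq_one]
    calc s ^ j * z * (s ^ j)⁻¹ = z * (s ^ j * s ^ j)⁻¹ := by rw [← h1]; group
      _ = z * s := by rw [inv_eq_of_mul_eq_one_left h2]
      _ = c := by rw [hs, ← mul_assoc, hzz, one_mul]

end CfsgLib.RankTwoModel.FieldElem
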