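import Cfsg.Agent.Lib.RankTwoModel.Invol
import Cfsg.Agent.Lib.RankTwoModel.Glue.FieldPair
import Cfsg.Agent.Lib.BrauerOrder.Instance

/-!
The 2-elements of the centraliser induce no field automorphism.

* `cent_comm_noncentral`: in a semidihedral or wreathed group the centraliser of a non-central element is abelian;
* `Rep.field_two`: the statement.
-/

set_option autoImplicit false
set_option linter.unusedSectionVars false
set_option linter.style.haveILetI false

namespace CfsgLib.RankTwoModel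

open Cfsg CfsgLib.BrauerOrder
open scoped MatrixGroups

universe u v

/-- The centraliser of a non-central element is abelian. -/
theorem cent_comm_noncentral {S : Type u} [Group S] [Finite S] (hS : IsQuasiDihedral S ∨ IsWreathed S) {b a c : S}
    (hbn : b ∉ Subgroup.center S) (ha : Commute a b) (hc : Commute c b) : Commute a c := by
  have hcz : ∀ x : S, x ∈ Subgroup.center S → ∀ y, Commute x y := fun x hx y => (Subgroup.mem_center_iff.mp hx y).symm
  -- two elements congruent to `1` or `b` modulo the centre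
  have hfin : ∀ {a c : S}, (a ∈ Subgroup.center S ∨ a * b⁻¹ ∈ Subgroup.center S) →
      (c ∈ Subgroup.center S ∨ c * b⁻¹ ∈ Subgroup.center S) → Commute a c := by
    intro a c ha hc
    rcases ha with h | h
    · exact hcz a h c
    rcases hc with h' | h'
    · exact (hcz c h' a).symm
    rw [show a = a * b⁻¹ * b by group, show c = c * b⁻¹ * b by group]
    exact ((hcz _ h _).mul_right (hcz _ h _)).mul_left ((hcz _ h' _).symm.mul_right (Commute.refl _))
  rcases hS with hS | hS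
  · obtain ⟨-, -, -, d, -⟩ := CfsgLib.QD.exists_data hS
    have hcen : ∀ {k i : ℤ}, Commute (d.x ^ k) (d.x ^ i * d.y) → d.x ^ k ∈ Subgroup.center S := by
      intro k i hk
      refine Subgroup.mem_center_iff.mpr fun g => ?_
      obtain ⟨j, rfl | rfl⟩ := CfsgLib.QD.cases_elem d g
      · exact (Commute.zpow_zpow (Commute.refl d.x) j k).eq
      · exact ((CfsgLib.QD.commute_xy_iff d).mpr ((CfsgLib.QD.commute_xy_iff d).mp hk)).eq.symm
    obtain ⟨k, rfl | rfl⟩ := CfsgLib.QD.cases_elem d b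
    · have key : ∀ g : S, Commute g (d.x ^ k) → ∃ i : ℤ, g = d.x ^ i := by
        intro g hg
        obtain ⟨i, rfl | rfl⟩ := CfsgLib.QD.cases_elem d g
        · exact ⟨i, rfl⟩
        · exact absurd (hcen hg.symm) hbn
      obtain ⟨i, rfl⟩ := key a ha
      obtain ⟨i', rfl⟩ := key c hc
      exact Commute.zpow_zpow (Commute.refl _) _ _
    · have key : ∀ g : S, Commute g (d.x ^ k * d.y) →
          g ∈ Subgroup.center S ∨ g * (d.x ^ k * d.y)⁻¹ ∈ Subgroup.center S := by
        intro g hg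
        obtain ⟨i, rfl | rfl⟩ := CfsgLib.QD.cases_elem d g
        · exact Or.inl (hcen hg)
        · right
          have h2 : d.x ^ i * d.y * (d.x ^ k * d.y)⁻¹ = d.x ^ (i - k) := by
            rw [mul_inv_rev, mul_assoc (d.x ^ i), ← mul_assoc d.y, mul_inv_cancel, one_mul, ← zpow_neg, ← zpow_add,
              sub_eq_add_neg]
          have h3 : Commute (d.x ^ i * d.y * (d.x ^ k * d.y)⁻¹) (d.x ^ k * d.y) :=
            hg.mul_left (Commute.refl _).inv_left
          rw [h2] at h3 ⊢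
          exact hcen h3
      exact hfin (key a ha) (key c hc)
  · obtain ⟨-, -, -, d, -⟩ := CfsgLib.Wr.exists_data hS
    obtain ⟨p, q, rfl | rfl⟩ := CfsgLib.Wr.cases_elem d b
    · have key : ∀ g : S, Commute g (d.u p q) → ∃ i k : ℤ, g = d.u i k := by
        intro g hg
        obtain ⟨i, k, rfl | rfl⟩ := CfsgLib.Wr.cases_elem d g
        · exact ⟨i, k, rfl⟩
        · exact absurd ((CfsgLib.Wr.u_central_iff d).mpr ((CfsgLib.Wr.commute_u_v_iff d).mp hg.symm)) hbn
      obtain ⟨i, k, rfl⟩ := key a ha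
      obtain ⟨i', k', rfl⟩ := key c hc
      show _ * _ = _ * _
      rw [CfsgLib.Wr.u_mul_u, CfsgLib.Wr.u_mul_u, add_comm i, add_comm k]
    · have key : ∀ g : S, Commute g (d.v p q) → g ∈ Subgroup.center S ∨ g * (d.v p q)⁻¹ ∈ Subgroup.center S := by
        intro g hg
        obtain ⟨i, k, rfl | rfl⟩ := CfsgLib.Wr.cases_elem d g
        · exact Or.inl ((CfsgLib.Wr.u_central_iff d).mpr ((CfsgLib.Wr.commute_u_v_iff d).mp hg))
        · right
          have h2 : d.v i k * (d.v p q)⁻¹ = d.u (i - p) (k - q) := by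
            rw [mul_inv_eq_iff_eq_mul, CfsgLib.Wr.u_mul_v, sub_add_cancel, sub_add_cancel]
          have h3 : Commute (d.v i k * (d.v p q)⁻¹) (d.v p q) := hg.mul_left (Commute.refl _).inv_left
          rw [h2] at h3 ⊢
          exact (CfsgLib.Wr.u_central_iff d).mpr ((CfsgLib.Wr.commute_u_v_iff d).mp h3)
      exact hfin (key a ha) (key c hc)

variable {G : Type u} [Group G] [Fintype G] {d : Frame G} (R : Rep d) (hd : d.Spec) (hq : 3 < d.q)

local notation "SL[" d "]" => Matrix.SpecialLinearGroup (Fin 2) (Frame.F d)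

include hd in
/-- A fixed element of `SL₂` lifts to an element of `L` commuting with a 2-element. -/
theorem Rep.lift_fixed_two {s : G} (hs : s ∈ d.C) {k : ℕ} (hk : s ^ 2 ^ k = 1) {A : SL[d]}
    (hA : R.σ ⟨s, hs⟩ A = A) : ∃ (y : G) (hy : y ∈ d.L), R.π ⟨y, hy⟩ = A ∧ Commute y s := by
  classical
  haveI : Fact (Nat.Prime 2) := ⟨Nat.prime_two⟩
  obtain ⟨a, ha⟩ := R.surj A
  let X := {y : ↥d.L // R.π y = A}
  haveI : Fintype X := Fintype.ofFinite X
  have hcard : Fintype.card X = Nat.card d.O := by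
    rw [← Nat.card_eq_fintype_card]
    refine (Nat.card_congr (Equiv.ofBijective (fun o : ↥d.O => (⟨a * ⟨o, d.O_le_L o.2⟩, ?_⟩ : X)) ⟨?_, ?_⟩)).symm
    · rw [map_mul, ha, (R.ker ⟨o, d.O_le_L o.2⟩).2 o.2, mul_one]
    · intro o o' e
      exact Subtype.ext (congrArg (fun y : ↥d.L => (y : G)) (mul_left_cancel (congrArg Subtype.val e) :))
    · rintro ⟨y, hy⟩
      exact ⟨⟨_, (R.ker (a⁻¹ * y)).1 (by rw [map_mul, map_inv, ha, hy, inv_mul_cancel])⟩,
        Subtype.ext (mul_inv_cancel_left a y)⟩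
  have hs' : s⁻¹ ∈ d.C := inv_mem hs
  have hAi : R.σ ⟨s⁻¹, hs'⟩ A = A := by
    conv_lhs => rw [← hA]
    rw [← MulAut.mul_apply, ← map_mul, show (⟨s⁻¹, hs'⟩ : ↥d.C) * ⟨s, hs⟩ = 1 from Subtype.ext (inv_mul_cancel s),
      map_one, MulAut.one_apply]
  let e : Equiv.Perm X :=
    { toFun := fun y => ⟨⟨s * (y.1 : G) * s⁻¹, d.L_conj hs y.1.2⟩, by rw [← R.compat ⟨s, hs⟩ y.1, y.2, hA]⟩
      invFun := fun y => ⟨⟨s⁻¹ * (y.1 : G) * s⁻¹⁻¹, d.L_conj hs' y.1.2⟩, by
        rw [← R.compat ⟨s⁻¹, hs'⟩ y.1, y.2, hAi]⟩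
      left_inv := fun y => Subtype.ext (Subtype.ext (by simp [mul_assoc]))
      right_inv := fun y => Subtype.ext (Subtype.ext (by simp [mul_assoc])) }
  have hpow : ∀ (i : ℕ) (y : X), (((e ^ i) y).1 : G) = s ^ i * (y.1 : G) * (s ^ i)⁻¹ := by
    intro i
    induction i with
    | zero => intro y; simp
    | succ i ih =>
      intro y
      rw [pow_succ', Equiv.Perm.mul_apply]
      show s * (((e ^ i) y).1 : G) * s⁻¹ = _
      rw [ih, pow_succ']
      group
  obtain ⟨y, hy⟩ := Equiv.Perm.exists_fixed_point_of_prime (p := 2) (n := k) (σ := e)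
    (by rw [hcard]; exact d.O_odd.not_two_dvd_nat)
    (Equiv.ext fun y => Subtype.ext (Subtype.ext (by rw [hpow, hk]; simp)))
  exact ⟨y.1, y.1.2, y.2, (mul_inv_eq_iff_eq_mul.1 (congrArg (fun y : X => (y.1 : G)) hy :)).symm⟩

section Sys

variable (h : Hyp G) [Fintype (Cz d.z)] {Ω : Type v} [MulAction (Cz d.z) Ω] {D : Sys G d.z} (hD : D.Spec Ω)

include hD in
/-- The central part of the system acts trivially. -/
theorem Rep.sigma_coreZ {u : Cz d.z} (hu : u ∈ D.core.Z) : R.σ ⟨(u : G), u.2⟩ = 1 := by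
  refine MulEquiv.ext fun A => ?_
  obtain ⟨x, rfl⟩ := R.surj A
  haveI := hD.core.onorm
  have hO : u * ⟨x, d.L_le x.2⟩ * u⁻¹ * (⟨x, d.L_le x.2⟩ : Cz d.z)⁻¹ ∈ D.core.O := by
    have h1 := hD.core.zcent u hu ⟨x, d.L_le x.2⟩
    have h2 := inv_mem h1
    rwa [show (⟨x, d.L_le x.2⟩ * u * (⟨x, d.L_le x.2⟩ : Cz d.z)⁻¹ * u⁻¹)⁻¹ =
      u * ⟨x, d.L_le x.2⟩ * u⁻¹ * (⟨x, d.L_le x.2⟩ : Cz d.z)⁻¹ by group] at h2
  have hle : D.core.O ≤ oddCore (Cz d.z) := CfsgLib.le_oddCore hD.core.oodd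
  rw [MulAut.one_apply, R.compat, ← mul_inv_eq_one, ← map_inv, ← map_mul]
  exact (R.ker _).2 ⟨_, hle hO, rfl⟩

include h hD in
/-- The centre of the Sylow subgroup of the system lies in its central part. -/
theorem center_le_coreZ {s : Cz d.z} (hs : s ∈ (D.core.S : Subgroup (Cz d.z)))
    (hc : ∀ r ∈ (D.core.S : Subgroup (Cz d.z)), r * s = s * r) : s ∈ D.core.Z := by
  obtain ⟨b, x, n, hr⟩ := hD.rot
  have hsT : s ∈ D.core.T b := by
    by_contra hsT
    obtain ⟨h1, -⟩ := hr.inv s hs hsT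
    rw [← hc x (hD.core.tle b hr.xmem), mul_inv_cancel_right, ← pow_two] at h1
    obtain ⟨a, ha⟩ := hr.hpow
    exact hr.xlow 2 two_pos (by
      rw [ha, pow_succ]
      have := Nat.one_le_two_pow (n := a)
      omega) h1
  exact (hD.core.nfix b s hsT).1 (by rw [hc _ (hD.core.nmem b), mul_inv_cancel_right])

include hd hq h hD in
/-- An element of the Sylow subgroup of the system whose square is central has no field part. -/
theorem Rep.field_of_sq (hS : IsQuasiDihedral (D.core.S : Subgroup (Cz d.z)) ∨ IsWreathed (D.core.S : Subgroup (Cz d.z)))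
    {s : Cz d.z} (hs : s ∈ (D.core.S : Subgroup (Cz d.z))) (hss : s * s ∈ D.core.Z) :
    R.field hd ⟨(s : G), s.2⟩ = 1 := by
  classical
  haveI : Fact d.p.Prime := ⟨hd.prime⟩
  haveI := hd.charP
  haveI : Fact (Nat.Prime 2) := ⟨Nat.prime_two⟩
  set s' : ↥d.C := ⟨(s : G), s.2⟩
  let σ' : Cz d.z →* MulAut SL[d] := R.σ
  obtain ⟨g, e, hge⟩ := SL2.exists_semi d.p (hd.three_lt hq) (R.σ s')
  have hfe := R.field_eq hd hge
  by_contra hne
  have hφ : R.σ s' * R.σ s' = 1 := by rw [← map_mul]; exact R.sigma_coreZ hD hss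
  obtain ⟨A, B, hA, hB, hAA, hBB, hAB, hBA⟩ :=
    SL2.field_quaternion d.p hd.odd_card (hd.three_lt hq) hφ hge (fun e1 => hne (by rw [hfe, e1]; rfl))
  obtain ⟨k, hk⟩ := D.core.S.2 ⟨s, hs⟩
  have hk' : (s : G) ^ 2 ^ k = 1 := congrArg (fun t : (D.core.S : Subgroup (Cz d.z)) => ((t : Cz d.z) : G)) hk
  -- a nonabelian 2-group of `L` centralised by `s`
  set H : Subgroup ↥d.L := (Subgroup.centralizer ({(s : G)} : Set G)).subgroupOf d.L with hH
  set f := R.π.comp H.subtype with hf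
  set K := Subgroup.zpowers A ⊔ Subgroup.zpowers B
  have hcyc : ∀ X : SL[d], X * X = -1 → IsPGroup 2 (Subgroup.zpowers X) := fun X hX => by
    have h4 : X ^ 2 ^ 2 = 1 := by rw [pow_two 2, pow_mul, pow_two, pow_two, hX, neg_mul_neg, one_mul]
    obtain ⟨m, -, hm⟩ := (Nat.dvd_prime_pow Nat.prime_two).mp (orderOf_dvd_of_pow_eq_one h4)
    exact IsPGroup.of_card (n := m) (by rw [Nat.card_zpowers, hm])
  have hK : IsPGroup 2 K := by
    refine (hcyc A hAA).to_sup_of_normal_left' (hcyc B hBB) ?_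
    rw [Subgroup.zpowers_le]
    refine Subgroup.mem_normalizer_fintype fun y hy => ?_
    obtain ⟨i, rfl⟩ := Subgroup.mem_zpowers_iff.mp hy
    rw [← conj_zpow, hBA]
    exact Subgroup.zpow_mem _ (inv_mem (Subgroup.mem_zpowers A)) i
  have hlift : ∀ X : SL[d], R.σ s' X = X → ∃ y : H, f y = X := fun X hX => by
    obtain ⟨y, hy, hyX, hys⟩ := R.lift_fixed_two hd s'.2 hk' hX
    exact ⟨⟨⟨y, hy⟩, Subgroup.mem_centralizer_singleton_iff.mpr hys.eq⟩, hyX⟩
  obtain ⟨a, ha⟩ := hlift A hA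
  obtain ⟨b, hb⟩ := hlift B hB
  set Y := K.comap f
  let fY : Y →* K := f.subgroupComap K
  have hsurj : Function.Surjective fY := by
    rintro ⟨X, hX⟩
    have hle : K ≤ f.range := sup_le (Subgroup.zpowers_le.mpr ⟨a, ha⟩) (Subgroup.zpowers_le.mpr ⟨b, hb⟩)
    obtain ⟨y, hy⟩ := hle hX
    exact ⟨⟨y, show f y ∈ K from hy ▸ hX⟩, Subtype.ext hy⟩
  obtain ⟨T⟩ : Nonempty (Sylow 2 Y) := inferInstance
  have hTK : (T : Subgroup Y).map fY = ⊤ := by
    rw [← Sylow.coe_mapSurjective hsurj T]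
    obtain ⟨n, hn⟩ := hK.exists_card_eq
    refine Subgroup.eq_top_of_card_eq _ ?_
    rw [(T.mapSurjective hsurj).card_eq_multiplicity, hn, Nat.prime_two.factorization_pow, Finsupp.single_eq_same]
  obtain ⟨a', ha', ea⟩ := hTK.ge (Subgroup.mem_top (⟨A, Subgroup.mem_sup_left (Subgroup.mem_zpowers A)⟩ : K))
  obtain ⟨b', hb', eb⟩ := hTK.ge (Subgroup.mem_top (⟨B, Subgroup.mem_sup_right (Subgroup.mem_zpowers B)⟩ : K))
  -- into the Sylow subgroup of the system
  set ι : ↥Y →* Cz d.z := (Subgroup.inclusion d.L_le).comp (H.subtype.comp Y.subtype) with hι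
  have hsι : ∀ y : ↥Y, Commute (ι y) s := fun y =>
    Subtype.ext (Subgroup.mem_centralizer_singleton_iff.mp (y : H).2)
  set P := (T : Subgroup Y).map ι ⊔ Subgroup.zpowers s with hP
  have hPp : IsPGroup 2 P := by
    refine (T.2.map ι).to_sup_of_normal_left' ?_ ?_
    · refine IsPGroup.of_card_dvd_pow (n := k) ?_
      rw [Nat.card_zpowers]
      exact orderOf_dvd_of_pow_eq_one (Subtype.ext hk')
    · rw [Subgroup.zpowers_le]
      refine Subgroup.mem_normalizer_fintype fun y hy => ?_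
      obtain ⟨y', hy', rfl⟩ := hy
      rw [← (hsι y').eq, mul_inv_cancel_right]
      exact Subgroup.mem_map_of_mem ι hy'
  obtain ⟨c, hc⟩ := CfsgLib.DihedralFusion.exists_conj_le (S := D.core.S) hPp
  have hmem : ∀ y ∈ P, c * y * c⁻¹ ∈ (D.core.S : Subgroup (Cz d.z)) := fun y hy => hc ⟨y, hy, rfl⟩
  have hsc := hmem s (Subgroup.mem_sup_right (Subgroup.mem_zpowers _))
  have hma := hmem (ι a') (Subgroup.mem_sup_left (Subgroup.mem_map_of_mem ι ha'))
  have hmb := hmem (ι b') (Subgroup.mem_sup_left (Subgroup.mem_map_of_mem ι hb'))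
  by_cases hcen : (⟨c * s * c⁻¹, hsc⟩ : (D.core.S : Subgroup (Cz d.z))) ∈ Subgroup.center _
  · have hZ := center_le_coreZ h hD hsc fun r hr =>
      congrArg Subtype.val (Subgroup.mem_center_iff.1 hcen ⟨r, hr⟩)
    have h1 : R.σ s' = 1 := by
      have h2 : σ' (c * s * c⁻¹) = 1 := R.sigma_coreZ hD hZ
      rw [map_mul, map_mul, map_inv, mul_inv_eq_one, mul_eq_left] at h2
      exact h2
    refine hne ((R.field_eq hd (g := 1) (e := RingEquiv.refl d.F) fun A => ?_).trans rfl)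
    rw [h1, MulAut.one_apply, inv_one, Units.val_one, one_mul, mul_one]
    rfl
  · have hab : ι a' * ι b' = ι b' * ι a' := by
      have h1 := cent_comm_noncentral hS hcen (a := ⟨_, hma⟩) (c := ⟨_, hmb⟩)
        (Subtype.ext ((Commute.conj_iff c).2 (hsι a')).eq) (Subtype.ext ((Commute.conj_iff c).2 (hsι b')).eq)
      exact ((Commute.conj_iff c).1 (congrArg Subtype.val h1.eq :)).eq
    refine hAB ?_
    have h1 : a' * b' = b' * a' := Subtype.ext (Subtype.ext (Subtype.ext
      (congrArg Subtype.val hab :)))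
    have h2 := congrArg (fun w => ((fY w : K) : SL[d])) h1
    simpa [ea, eb] using h2

end Sys

include hd hq in
/-- **The 2-elements induce no field automorphism.** -/
theorem Rep.field_two (h : Hyp G) (c : ↥d.C) {k : ℕ} (hk : c ^ 2 ^ k = 1) : R.field hd c = 1 := by
  classical
  let θ : Cz d.z →* RingAut d.F := R.field hd
  suffices hθ : ∀ c : Cz d.z, c ^ 2 ^ k = 1 → θ c = 1 from hθ ⟨(c : G), c.2⟩ (Subtype.ext (congrArg Subtype.val hk :))
  clear hk c
  intro c hk
  haveI : Fact (Nat.Prime 2) := ⟨Nat.prime_two⟩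
  haveI : Fintype (Cz d.z) := Fintype.ofFinite _
  obtain ⟨Ω, _, D, hD, -⟩ := hd.exists_sys h
  have hSC : (d.S : Subgroup G) ≤ d.C := fun s hs => Subgroup.mem_centralizer_singleton_iff.mpr (hd.zc s hs)
  have hS : IsQuasiDihedral (D.core.S : Subgroup (Cz d.z)) ∨ IsWreathed (D.core.S : Subgroup (Cz d.z)) :=
    CfsgLib.QDWNoTwo.shape_equiv
      ((Subgroup.subgroupOfEquivOfLe hSC).symm.trans (Sylow.equiv (d.S.subtype hSC) D.core.S)) hd.qw
  obtain ⟨b, x, n, hr⟩ := hD.rot
  have houtside : ∀ s ∈ (D.core.S : Subgroup (Cz d.z)), s ∉ D.core.T b → θ s = 1 := fun s hs hsT =>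
    R.field_of_sq hd hq h hD hS hs (hr.inv s hs hsT).2
  have hnb : D.core.n b ∉ D.core.T b := fun hn => by
    obtain ⟨t, ht, htZ⟩ := hD.core.zne b
    exact htZ ((hD.core.nfix b t ht).1 (by rw [hD.core.tcomm b _ hn t ht, mul_inv_cancel_right]))
  have hxf : θ x = 1 := by
    have h1 := houtside _ (hD.core.nmem b) hnb
    have h2 := houtside (D.core.n b * x) (mul_mem (hD.core.nmem b) (hD.core.tle b hr.xmem))
      (fun hm => hnb ((Subgroup.mul_mem_cancel_right _ hr.xmem).1 hm))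
    rwa [map_mul, h1, one_mul] at h2
  have hZf : ∀ u ∈ D.core.Z, θ u = 1 := fun u hu =>
    (R.field_eq hd (c := ⟨(u : G), u.2⟩) (g := 1) (e := RingEquiv.refl d.F) fun A => by
      rw [R.sigma_coreZ hD hu, MulAut.one_apply, inv_one, Units.val_one, one_mul, mul_one]; rfl).trans rfl
  have hSf : ∀ s ∈ (D.core.S : Subgroup (Cz d.z)), θ s = 1 := fun s hs => by
    by_cases hsT : s ∈ D.core.T b
    · obtain ⟨i, hi⟩ := hr.gen s hsT
      have h1 := hZf _ hi
      rwa [map_mul, map_inv, map_pow, hxf, one_pow, inv_one, one_mul] at h1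
    · exact houtside s hs hsT
  have hp : IsPGroup 2 (Subgroup.zpowers c) :=
    IsPGroup.of_card_dvd_pow (n := k) (by rw [Nat.card_zpowers]; exact orderOf_dvd_of_pow_eq_one hk)
  obtain ⟨g, hg⟩ := CfsgLib.DihedralFusion.exists_conj_le (S := D.core.S) hp
  have h1 := hSf _ (hg ⟨c, Subgroup.mem_zpowers _, rfl⟩)
  simp only [MulEquiv.coe_toMonoidHom, MulAut.conj_apply] at h1
  rwa [map_mul, map_mul, map_inv, mul_inv_eq_one, mul_eq_left] at h1

end CfsgLib.RankTwoModel
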