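import Cfsg.Agent.Lib.RankTwoModel.L4.Index
import Cfsg.Agent.Lib.RankTwoModel.FieldElem.Kernel

/-!
In the semidihedral case the involutions of `C` other than `z` are conjugate under `L`.

* `Hyp.invol_conj_L`: the statement;
* `L4.Ctx.index_eq_of_class`: the index hypothesis, without assuming that no field automorphism occurs.
-/

set_option autoImplicit false
set_option linter.unusedSectionVars false
set_option linter.style.haveILetI false

namespace CfsgLib.RankTwoModel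

open Cfsg CfsgLib.BG CfsgLib.PSL2Max
open scoped MatrixGroups

universe u v

variable {G : Type u} [Group G] [Finite G] {d : Frame G}

local notation "SL[" d "]" => Matrix.SpecialLinearGroup (Fin 2) (Frame.F d)

/-- **The involutions other than `z` are conjugate under `L`.** -/
theorem Hyp.invol_conj_L (h : Hyp G) (hd : d.Spec) (hq : 3 < d.q) (R : Rep d)
    (hsd : IsQuasiDihedral (d.S : Subgroup G)) {v w : G} (hv : v ∈ d.C) (hv2 : orderOf v = 2) (hvz : v ≠ d.z)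
    (hw : w ∈ d.C) (hw2 : orderOf w = 2) (hwz : w ≠ d.z) : ∃ y ∈ d.L, y * v * y⁻¹ = w := by
  letI := Fintype.ofFinite G
  obtain ⟨m, hmt, hmn, hm⟩ := R.invol hd hq h hv hv2 hvz
  obtain ⟨m', hmt', hmn', hm'⟩ := R.invol hd hq h hw hw2 hwz
  have hσv : R.σ ⟨v, hv⟩ = PSL2.conjSL m := MulEquiv.ext fun A => Subtype.ext (hm A)
  have hσw : R.σ ⟨w, hw⟩ = PSL2.conjSL m' := MulEquiv.ext fun A => Subtype.ext (hm' A)
  have hinv : ∀ m : GL (Fin 2) d.F, m.1.trace = 0 → (∀ a : d.F, m.1 ≠ a • (1 : Matrix (Fin 2) (Fin 2) d.F)) →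
      pgm m * pgm m = 1 ∧ pgm m ≠ 1 := fun m htr hns => by
    refine ⟨?_, fun e => ?_⟩
    · rw [← map_mul]
      refine pgm_one_of_scalar (z := -m.1.det) ?_
      rw [Units.val_mul, Matrix.trace_fin_two] at *
      ext i j
      fin_cases i <;> fin_cases j <;>
        simp [Matrix.mul_apply, Fin.sum_univ_two, Matrix.det_fin_two, eq_neg_of_add_eq_zero_right htr] <;> ring
    · obtain ⟨z, -, hz⟩ := scalar_of_pgm_one e
      exact hns z hz
  obtain ⟨i1, i2⟩ := hinv m hmt hmn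
  obtain ⟨j1, j2⟩ := hinv m' hmt' hmn'
  obtain ⟨X, hX⟩ := GW.Model.invol_conj hd.odd_card (hd.three_lt hq) i1 i2 j1 j2
    (iff_of_false (fun e => R.outer hd hq h hsd hv hv2 hvz hσv ((GW.Model.inner_iff m).1 e))
      (fun e => R.outer hd hq h hsd hw hw2 hwz hσw ((GW.Model.inner_iff m').1 e)))
  obtain ⟨A, rfl⟩ := QuotientGroup.mk'_surjective _ X
  obtain ⟨y₀, hy₀⟩ := R.surj A
  set t := Matrix.SpecialLinearGroup.toGL A
  have hσy : R.σ ⟨y₀, d.L_le y₀.2⟩ = PSL2.conjSL t := by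
    refine MulEquiv.ext fun B => Subtype.ext ?_
    rw [R.sigma_inner, hy₀, PSL2.coe_conjSL, ← map_inv]
    rfl
  obtain ⟨a, ha0, ha⟩ := scalar_of_pgm_one (g := (t * m * t⁻¹)⁻¹ * m') (by
    rw [map_mul, map_inv, inv_mul_eq_one, map_mul, map_mul, map_inv]
    exact hX)
  set v' := (y₀ : G) * v * (y₀ : G)⁻¹ with hv'
  have hy₀C := d.L_le y₀.2
  have hv'C : v' ∈ d.C := mul_mem (mul_mem hy₀C hv) (inv_mem hy₀C)
  have hv'2 : orderOf v' = 2 := (orderOf_cj _ v).trans hv2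
  have hv'z : v' ≠ d.z := fun e => hvz (by
    have h1 : v' = (y₀ : G) * d.z * (y₀ : G)⁻¹ := by rw [e, Frame.Spec.z_central hy₀C, mul_inv_cancel_right]
    exact mul_left_cancel (mul_right_cancel h1))
  obtain ⟨o, ho, hoe⟩ := R.sigma_kernel hd hq h hsd (mul_mem (inv_mem hv'C) hw) (by
    show R.σ ((⟨y₀, hy₀C⟩ * ⟨v, hv⟩ * ⟨y₀, hy₀C⟩⁻¹)⁻¹ * ⟨w, hw⟩) = 1
    rw [map_mul, map_inv, map_mul, map_mul, map_inv, hσy, hσv, hσw, ← map_inv PSL2.conjSL t, ← map_mul, ← map_mul,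
      ← map_inv PSL2.conjSL, ← map_mul]
    exact SL2.conjSL_scalar ha)
  obtain ⟨y₁, hy₁, hy₁v⟩ : ∃ y ∈ d.L, ∃ o ∈ d.O, w = y * v * y⁻¹ * o := by
    rcases hoe with e | e
    · exact ⟨y₀, y₀.2, o, ho, by rw [← e, mul_inv_cancel_left]⟩
    · obtain ⟨s, hs, hsv⟩ := h.swap_D hd hq hv'C hv'2 hv'z
      refine ⟨s * y₀, mul_mem (hd.D_le_L hq hs) y₀.2, o, ho, ?_⟩
      rw [show s * (y₀ : G) * v * (s * (y₀ : G))⁻¹ = s * v' * s⁻¹ by rw [hv']; group, hsv, ← Frame.Spec.z_central hv'C,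
        mul_assoc, ← e, mul_inv_cancel_left]
  obtain ⟨o', ho', rfl⟩ := hy₁v
  set v₁ := y₁ * v * y₁⁻¹ with hv₁
  have hv₁C : v₁ ∈ d.C := mul_mem (mul_mem (d.L_le hy₁) hv) (inv_mem (d.L_le hy₁))
  have hv₁1 : v₁ * v₁ = 1 := invol_mul_self ((orderOf_cj _ v).trans hv2)
  obtain ⟨b, hb, c, hc, hcv, hbc⟩ := CfsgLib.RankTwo.coset_conj d.O d.O_odd hv₁1
    (fun e he => Frame.Spec.O_conj hv₁C he) ho'
  have hc1 : c = 1 := by
    have h1 : (v₁ * c) * (v₁ * c) = 1 := by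
      rw [← hbc, show b * (v₁ * o') * b⁻¹ * (b * (v₁ * o') * b⁻¹) = b * (v₁ * o' * (v₁ * o')) * b⁻¹ by group,
        invol_mul_self hw2, mul_one, mul_inv_cancel]
    rw [mul_assoc v₁ c, ← mul_assoc c, hcv, mul_assoc v₁ c c, ← mul_assoc v₁ v₁, hv₁1, one_mul] at h1
    by_contra hne
    exact not_mem_of_odd d.O_odd (orderOf_eq_prime (by rw [pow_two, h1]) hne) hc
  rw [hc1, mul_one] at hbc
  refine ⟨b⁻¹ * y₁, mul_mem (inv_mem (d.O_le_L hb)) hy₁, ?_⟩
  rw [show b⁻¹ * y₁ * v * (b⁻¹ * y₁)⁻¹ = b⁻¹ * v₁ * b by rw [hv₁]; group]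
  conv_lhs => rw [← hbc]
  group

/-- An element of `C` is an element of `L` times one fixing the involution. -/
theorem Hyp.exists_L_mul_cent (h : Hyp G) (hd : d.Spec) (hq : 3 < d.q) (R : Rep d)
    (hsd : IsQuasiDihedral (d.S : Subgroup G)) {v : G} (hv : v ∈ d.C) (hv2 : orderOf v = 2) (hvz : v ≠ d.z)
    {c : G} (hc : c ∈ d.C) : ∃ y ∈ d.L, Commute (y * c) v := by
  obtain ⟨y, hy, e⟩ := h.invol_conj_L hd hq R hsd (mul_mem (mul_mem hc hv) (inv_mem hc))
    ((orderOf_cj c v).trans hv2) (fun e => hvz (by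
      have h1 : c * v * c⁻¹ = c * d.z * c⁻¹ := by rw [e, Frame.Spec.z_central hc, mul_inv_cancel_right]
      exact mul_left_cancel (mul_right_cancel h1))) hv hv2 hvz
  refine ⟨y, hy, ?_⟩
  show y * c * v = v * (y * c)
  rw [← mul_inv_eq_iff_eq_mul]
  conv_rhs => rw [← e]
  group

namespace L4

open CfsgLib.BrauerOrder

variable [Fintype G] {g : G} (c : Ctx d g) (R : Rep d) [Fintype (Cz d.z)] {Ω : Type v} [MulAction (Cz d.z) Ω]
  {D : Sys G d.z} (hD : D.Spec Ω) (hw : (D.w : G) = inv2 d g)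

include c R hD hw in
/-- **The index hypothesis in the semidihedral case**, with no assumption on field automorphisms. -/
theorem Ctx.index_eq_of_class (hqc : D.core.q = d.q) (hsd : IsQuasiDihedral (d.S : Subgroup G)) :
    Nat.card (Cz d.z) = Nat.card (Subgroup.centralizer ({(D.w : G), d.z} : Set G)) *
      Nat.card (invI d (inv2 d g)) * (D.Q * (D.Q + 1)).natAbs := by
  obtain ⟨k, m, hkm, hk, hm, -⟩ := c.cent_w_mul hw
  rw [c.cent_w hw] at hk
  set Cu := d.C ⊓ Subgroup.centralizer ({inv2 d g} : Set G) with hCu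
  have hmul : ∀ {A B : Subgroup G}, A ≤ B → Nat.card A * A.relIndex B = Nat.card B := fun {A B} hAB => by
    rw [← Subgroup.relIndex_bot_left, ← Subgroup.relIndex_bot_left, Subgroup.relIndex_mul_relIndex _ _ _ bot_le hAB]
  have hfix : fixL d g = d.L ⊓ Cu := by rw [hCu, ← inf_assoc, inf_of_le_left d.L_le]; rfl
  have hk' : k = d.L.relIndex Cu := by
    refine Nat.eq_of_mul_eq_mul_left (Nat.card_pos (α := fixL d g)) (hk.trans ?_)
    rw [← Subgroup.inf_relIndex_right, hfix, hmul inf_le_right]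
  have hm' : m = d.L.relIndex d.C := Nat.eq_of_mul_eq_mul_left Nat.card_pos (hm.trans (hmul d.L_le).symm)
  have hkm' : k = m := by
    haveI : (d.L.subgroupOf d.C).Normal := ⟨fun x hx y => d.L_conj y.2 hx⟩
    have htop : Cu.subgroupOf d.C ⊔ d.L.subgroupOf d.C = ⊤ := eq_top_iff.2 fun x _ => by
      obtain ⟨y, hy, hyx⟩ := c.hyp.exists_L_mul_cent c.spec c.hq R hsd c.inv2_mem c.inv2_order c.inv2_ne x.2
      rw [show x = (⟨y, d.L_le hy⟩ : ↥d.C)⁻¹ * (⟨y, d.L_le hy⟩ * x) by group]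
      exact mul_mem (Subgroup.mem_sup_right (inv_mem (Subgroup.mem_subgroupOf.2 hy))) (Subgroup.mem_sup_left
        (Subgroup.mem_subgroupOf.2 ⟨mul_mem (d.L_le hy) x.2, Subgroup.mem_centralizer_singleton_iff.2 hyx.eq⟩))
    rw [hk', hm', ← Subgroup.relIndex_subgroupOf (inf_le_left : Cu ≤ d.C), ← Subgroup.relIndex_sup_right, htop,
      Subgroup.relIndex_top_right]
    rfl
  rw [← hm, c.card_L R hD hw hqc, c.cent_w hw, ← hk, hkm']
  ring

end L4

end CfsgLib.RankTwoModel
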