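import Cfsg.Agent.Lib.RankTwoModel.FieldElem.Pure
import Cfsg.Agent.Lib.RankTwoModel.FieldElem.InvolClass
import Cfsg.Agent.Lib.Chev.Aut.FieldCyclic

/-!
A field element centralised by a three-cycle of a four group.

* `Rep.exists_fusion`: if some element of `C` has field part of order `r`, there are `b`, a `Loc` at `(b, z)` and an
  element of `C(b)` permuting a four group through `z` cyclically.
-/

set_option autoImplicit false
set_option linter.unusedSectionVars false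
set_option linter.style.haveILetI false

namespace CfsgLib.RankTwoModel

open Cfsg
open scoped MatrixGroups

universe u

variable {G : Type u} [Group G] [Finite G] {d : Frame G}

include d in
/-- A four group through `z` with a three-cycle. -/
theorem Hyp.exists_cycle (h : Hyp G) (hd : d.Spec) : ∃ u g : G, u ∈ d.C ∧ orderOf u = 2 ∧ u ≠ d.z ∧
    g * d.z * g⁻¹ = u ∧ g * u * g⁻¹ = d.z * u ∧ g * (d.z * u) * g⁻¹ = d.z := by
  obtain ⟨u, hu, hu1, huz⟩ : ∃ u ∈ d.U, u ≠ 1 ∧ u ≠ d.z := by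
    by_contra hcon
    push Not at hcon
    have hle : d.U ≤ Subgroup.zpowers d.z := fun x hx => by
      by_cases h1 : x = 1
      · exact h1 ▸ one_mem _
      · exact hcon x hx h1 ▸ Subgroup.mem_zpowers _
    have := Subgroup.card_le_of_le hle
    rw [hd.klein.card_four, Nat.card_zpowers, hd.zord] at this
    omega
  haveI := hd.klein
  have huu : u * u = 1 := congrArg Subtype.val (IsKleinFour.mul_self (⟨u, hu⟩ : d.U))
  have hu2 : orderOf u = 2 := orderOf_eq_prime (by rw [pow_two]; exact huu) hu1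
  have huC : u ∈ d.C := Subgroup.mem_centralizer_singleton_iff.mpr (hd.zc u (hd.US hu))
  obtain ⟨g, g1, g2, g3⟩ := h.three hd.zord hu2 (Frame.Spec.z_central huC).symm huz
  exact ⟨u, g, huC, hu2, huz, g1, g2, g3⟩

variable (R : Rep d) (hd : d.Spec) (hq : 3 < d.q)

include hd hq in
/-- **A field element fixed by a three-cycle.** -/
theorem Rep.exists_fusion (h : Hyp G) (hsd : IsQuasiDihedral (d.S : Subgroup G))
    (hOD : ∀ x ∈ d.O, ∀ y ∈ d.D, x * y = y * x) {r : ℕ} [Fact r.Prime] (hr2 : r ≠ 2)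
    (hI : ∀ w ∈ d.C, orderOf w = 2 → ∀ x ∈ d.O, (∃ k : ℕ, x ^ r ^ k = 1) → w * x * w⁻¹ = x⁻¹ → x = 1)
    (hrm : r ∣ GW.Model.qm d.F) (hf : ∃ c : ↥d.C, orderOf (R.field hd c) = r) :
    ∃ (b : G) (D : Subgroup G) (t : G), b ≠ 1 ∧ (∃ k : ℕ, b ^ r ^ k = 1) ∧ Loc r b d.z D ∧ Commute b t ∧ t * d.z * t⁻¹ ≠ d.z ∧
      Commute (t * d.z * t⁻¹) d.z ∧ t * (t * d.z * t⁻¹) * t⁻¹ = d.z * (t * d.z * t⁻¹) := by
  classical
  have hr : r.Prime := Fact.out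
  obtain ⟨u, g, huC, hu2, huz, g1, g2, g3⟩ := h.exists_cycle hd
  have huc : Commute d.z u := (Frame.Spec.z_central huC).symm
  have hgi : g⁻¹ * d.z * g⁻¹⁻¹ = d.z * u := by (conv_lhs => rw [← g3]); group
  have hzu : d.z * u ≠ d.z := fun e => BG.ne_one_of_invol hu2 (mul_eq_left.1 e)
  haveI : IsCyclic (RingAut d.F) := CfsgLib.Chev.ringAut_cyclic_finite d.F
  haveI : Finite (RingAut d.F) :=
    Finite.of_injective (fun g : RingAut d.F => (g : d.F → d.F)) DFunLike.coe_injective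
  have hcomm : ∀ a c : RingAut d.F, Commute a c := fun a c => by
    obtain ⟨g, hg⟩ := IsCyclic.exists_generator (α := RingAut d.F)
    obtain ⟨i, rfl⟩ := Subgroup.mem_zpowers_iff.1 (hg a)
    obtain ⟨j, rfl⟩ := Subgroup.mem_zpowers_iff.1 (hg c)
    exact Commute.zpow_zpow (Commute.refl g) i j
  set θ := R.field hd with hθ
  -- the centraliser of the four group, and the field parts killed by `r`
  set V : Subgroup G := d.C ⊓ Subgroup.centralizer ({u} : Set G) with hV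
  let Er : Subgroup (RingAut d.F) :=
    { carrier := {e | e ^ r = 1}
      one_mem' := one_pow r
      mul_mem' := fun {a c} ha hc => show (a * c) ^ r = 1 by rw [(hcomm a c).mul_pow, ha, hc, one_mul]
      inv_mem' := fun {a} ha => show a⁻¹ ^ r = 1 by rw [inv_pow, ha, inv_one] }
  set K : Subgroup G := (Er.comap θ).map d.C.subtype ⊓ Subgroup.centralizer ({u} : Set G) with hK
  have hKC : ∀ {y : G}, y ∈ K → ∃ hy : y ∈ d.C, θ ⟨y, hy⟩ ^ r = 1 ∧ Commute y u := by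
    rintro y ⟨⟨y', hy', rfl⟩, hyu⟩
    exact ⟨y'.2, hy', Subgroup.mem_centralizer_singleton_iff.1 hyu⟩
  have hKmem : ∀ {y : G} (hy : y ∈ d.C), θ ⟨y, hy⟩ ^ r = 1 → Commute y u → y ∈ K := fun {y} hy h1 h2 =>
    ⟨⟨⟨y, hy⟩, h1, rfl⟩, Subgroup.mem_centralizer_singleton_iff.2 h2.eq⟩
  -- an element with field part of order `r` commuting with the four group
  obtain ⟨c, hc⟩ := hf
  obtain ⟨y, hy, hyu⟩ := h.exists_L_mul_cent hd hq R hsd huC hu2 huz c.2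
  have hyC : y * c ∈ d.C := mul_mem (d.L_le hy) c.2
  have hfx : θ ⟨y * c, hyC⟩ = θ c := by
    rw [show (⟨y * c, hyC⟩ : ↥d.C) = ⟨y, d.L_le hy⟩ * c from rfl, map_mul, hθ, R.field_L hd hy, one_mul]
  obtain ⟨a, m, hm, hn⟩ := Nat.exists_eq_pow_mul_and_not_dvd (orderOf_pos (y * (c : G))).ne' r hr.ne_one
  have hb0r : ((y * c) ^ m) ^ r ^ a = 1 := by rw [← pow_mul, mul_comm, ← hn, pow_orderOf_eq_one]
  have hb0f : orderOf (θ ⟨(y * c) ^ m, pow_mem hyC m⟩) = r := by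
    rw [show (⟨(y * c) ^ m, pow_mem hyC m⟩ : ↥d.C) = ⟨y * c, hyC⟩ ^ m from rfl, map_pow, hfx,
      Nat.Coprime.orderOf_pow (by rw [hc]; exact hr.coprime_iff_not_dvd.2 hm), hc]
  have hb0K : (y * c) ^ m ∈ K := hKmem (pow_mem hyC m)
    (hb0f ▸ pow_orderOf_eq_one (θ ⟨(y * c) ^ m, pow_mem hyC m⟩)) (hyu.pow_left m)
  obtain ⟨P⟩ : Nonempty (Sylow r ↥K) := inferInstance
  have hPpow : ∀ {x : G}, x ∈ (P : Subgroup ↥K).map K.subtype → ∃ k : ℕ, x ^ r ^ k = 1 := by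
    rintro x ⟨x', hx', rfl⟩
    obtain ⟨k, hk⟩ := P.2 ⟨x', hx'⟩
    exact ⟨k, congrArg (fun t : (P : Subgroup ↥K) => ((t : ↥K) : G)) hk⟩
  have hcj : ∀ T : Subgroup ↥K, IsPGroup r T → ∃ k : ↥K, ∀ x ∈ T, k * x * k⁻¹ ∈ (P : Subgroup ↥K) := by
    intro T hT
    obtain ⟨Q, hQ⟩ := hT.exists_le_sylow
    obtain ⟨k, hk⟩ := MulAction.exists_smul_eq ↥K Q P
    refine ⟨k, fun x hx => ?_⟩
    rw [← hk, Sylow.coe_subgroup_smul]
    exact Subgroup.smul_mem_pointwise_smul _ (MulAut.conj k) _ (hQ hx)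
  obtain ⟨k0, hk0⟩ := hcj (Subgroup.zpowers ⟨_, hb0K⟩) (IsPGroup.of_card_dvd_pow (n := a) (by
      rw [Nat.card_zpowers]; exact orderOf_dvd_of_pow_eq_one (Subtype.ext hb0r)))
  set P' := (P : Subgroup ↥K).map K.subtype with hP'
  have hP'K : P' ≤ K := Subgroup.map_subtype_le _
  set b := (k0 : G) * (y * c) ^ m * (k0 : G)⁻¹ with hbdef
  have hbP : b ∈ P' := ⟨_, hk0 _ (Subgroup.mem_zpowers _), rfl⟩
  obtain ⟨hbC, -, hbu⟩ := hKC (hP'K hbP)
  obtain ⟨hk0C, -, -⟩ := hKC k0.2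
  have hbf : orderOf (θ ⟨b, hbC⟩) = r := by
    rw [show (⟨b, hbC⟩ : ↥d.C) = ⟨k0, hk0C⟩ * ⟨(y * c) ^ m, pow_mem hyC m⟩ * ⟨k0, hk0C⟩⁻¹ from rfl, map_mul,
      map_mul, map_inv, (hcomm (θ ⟨k0, hk0C⟩) _).eq, mul_inv_cancel_right, hb0f]
  obtain ⟨kb, hkb⟩ := hPpow hbP
  -- the local data and the swap
  obtain ⟨D, hL⟩ := R.exists_loc_of_field hd hq h hsd hr2 hrm hbC hkb huC hu2 huz hbu hOD hI hbf
  obtain ⟨w, hwD, hwu⟩ := hL.swap u hu2 huz hbu huc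
  haveI := hL.perfect
  have hDC : D ≤ d.C := fun x hx => Subgroup.mem_centralizer_singleton_iff.mpr (hL.comm_v x hx).symm.eq
  have hwO : ∀ o ∈ d.O, Commute w o := fun o ho => (hOD o ho w (d.le_D hDC hwD)).symm
  have hwz : Commute w d.z := (hL.comm_v w hwD).symm
  -- `w` centralises `P'`
  have hwP : ∀ x ∈ P', Commute w x := by
    intro x hx
    obtain ⟨hxC, hxr, hxu⟩ := hKC (hP'K hx)
    have hmem : θ ⟨x, hxC⟩ ∈ Subgroup.zpowers (θ ⟨b, hbC⟩) := by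
      obtain ⟨γ, hγ⟩ := IsCyclic.exists_ofOrder_eq_natCard (α := RingAut d.F)
      by_contra hne
      set E := Subgroup.zpowers (θ ⟨b, hbC⟩) ⊔ Subgroup.zpowers (θ ⟨x, hxC⟩) with hE
      have hEr : E ≤ Er := sup_le (Subgroup.zpowers_le.2 (show θ ⟨b, hbC⟩ ^ r = 1 from hbf ▸ pow_orderOf_eq_one _))
        (Subgroup.zpowers_le.2 hxr)
      have h1 : Nat.card E ∣ r := by
        obtain ⟨e, he⟩ := IsCyclic.exists_ofOrder_eq_natCard (α := ↥E)
        rw [← he]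
        exact orderOf_dvd_of_pow_eq_one (Subtype.ext (hEr e.2))
      have h2 : Subgroup.zpowers (θ ⟨b, hbC⟩) = E := Subgroup.eq_of_le_of_card_ge le_sup_left
        ((Nat.le_of_dvd hr.pos h1).trans (by rw [Nat.card_zpowers, hbf]))
      exact hne (h2 ▸ Subgroup.mem_sup_right (Subgroup.mem_zpowers _))
    obtain ⟨i, hi : θ ⟨b, hbC⟩ ^ i = θ ⟨x, hxC⟩⟩ :=
      (mem_powers_iff_mem_zpowers (x := θ ⟨b, hbC⟩)).2 hmem
    have hyP : (b ^ i)⁻¹ * x ∈ P' := mul_mem (inv_mem (pow_mem hbP i)) hx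
    obtain ⟨hyC, -, hyu⟩ := hKC (hP'K hyP)
    obtain ⟨ky, hky⟩ := hPpow hyP
    have hyO : (b ^ i)⁻¹ * x ∈ d.O := by
      refine R.mem_O_of_field hd hq h hsd hr2 hrm hyC hky huC hu2 huz hyu ?_
      rw [show (⟨(b ^ i)⁻¹ * x, hyC⟩ : ↥d.C) = (⟨b, hbC⟩ ^ i)⁻¹ * ⟨x, hxC⟩ from rfl, map_mul, map_inv, map_pow,
        ← hθ, hi, inv_mul_cancel]
    have h3 := (((hL.comm_a w hwD).symm).pow_right i).mul_right (hwO _ hyO)
    rwa [mul_inv_cancel_left] at h3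
  -- the cycle normalises a Sylow subgroup
  have hgK : ∀ x ∈ P', g * x * g⁻¹ ∈ K := by
    intro x hx
    obtain ⟨hxC, hxr, hxu⟩ := hKC (hP'K hx)
    have hxz : Commute x d.z := Frame.Spec.z_central hxC
    have hgu : Commute (g * x * g⁻¹) u := by have := (Commute.conj_iff g).2 hxz; rwa [g1] at this
    have hgz : g * x * g⁻¹ ∈ d.C := by
      refine Subgroup.mem_centralizer_singleton_iff.mpr ?_
      have := (Commute.conj_iff g).2 (hxz.mul_right hxu)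
      rw [g3] at this
      exact this.eq
    refine hKmem hgz ?_ hgu
    obtain ⟨k, hk⟩ := hPpow hx
    have hodd : Odd (orderOf (x ^ r)) := ((hr.odd_of_ne_two hr2).pow).of_dvd_nat
      ((orderOf_pow_dvd r).trans (orderOf_dvd_of_pow_eq_one hk))
    have e : g⁻¹⁻¹ * x ^ r * g⁻¹ = (g * x * g⁻¹) ^ r := by rw [inv_inv, conj_pow]
    have h1 := h.field_pair R hd hq hOD (g := g⁻¹) (by rw [hgi]; exact hzu)
      (by rw [hgi]; exact (((Commute.refl d.z).mul_left huc.symm)).eq) (pow_mem hxC r)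
      (e ▸ pow_mem hgz r) hodd (by rw [show (⟨x ^ r, pow_mem hxC r⟩ : ↥d.C) = ⟨x, hxC⟩ ^ r from rfl, map_pow]; exact hxr)
    rw [← hθ] at h1
    rw [← map_pow, show (⟨g * x * g⁻¹, hgz⟩ : ↥d.C) ^ r = ⟨g⁻¹⁻¹ * x ^ r * g⁻¹, e ▸ pow_mem hgz r⟩ from
      Subtype.ext e.symm]
    exact h1
  have hQle : P'.map (MulAut.conj g).toMonoidHom ≤ K := by
    rintro _ ⟨x, hx, rfl⟩; exact hgK x hx
  obtain ⟨k1, hk1⟩ := hcj ((P'.map (MulAut.conj g).toMonoidHom).subgroupOf K)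
    (((P.2.map K.subtype).map _).comap_of_injective K.subtype K.subtype_injective)
  obtain ⟨hk1C, -, hk1u⟩ := hKC k1.2
  have hk1z : Commute (k1 : G) d.z := Frame.Spec.z_central hk1C
  set g' := (k1 : G) * g with hg'
  have hfix : ∀ {s : G}, Commute (k1 : G) s → (k1 : G) * s * (k1 : G)⁻¹ = s := fun hs => by
    rw [hs.eq, mul_inv_cancel_right]
  have e1 : g' * d.z * g'⁻¹ = u := by
    rw [hg', show (k1 : G) * g * d.z * ((k1 : G) * g)⁻¹ = (k1 : G) * (g * d.z * g⁻¹) * (k1 : G)⁻¹ by group, g1,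
      hfix hk1u]
  have e2 : g' * u * g'⁻¹ = d.z * u := by
    rw [hg', show (k1 : G) * g * u * ((k1 : G) * g)⁻¹ = (k1 : G) * (g * u * g⁻¹) * (k1 : G)⁻¹ by group, g2,
      hfix (hk1z.mul_right hk1u)]
  have e3 : g' * (d.z * u) * g'⁻¹ = d.z := by
    rw [hg', show (k1 : G) * g * (d.z * u) * ((k1 : G) * g)⁻¹ = (k1 : G) * (g * (d.z * u) * g⁻¹) * (k1 : G)⁻¹ by group,
      g3, hfix hk1z]
  have hg'P : ∀ x ∈ P', g' * x * g'⁻¹ ∈ P' := fun x hx =>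
    ⟨_, hk1 ⟨g * x * g⁻¹, hgK x hx⟩ (Subgroup.mem_subgroupOf.2 ⟨x, hx, rfl⟩), by
      show (k1 : G) * (g * x * g⁻¹) * (k1 : G)⁻¹ = _
      rw [hg']; group⟩
  -- the cycle centralising `P'`
  refine ⟨b, D, g'⁻¹ * w * g' * w⁻¹, fun e => ?_, ⟨kb, hkb⟩, hL, ?_, ?_⟩
  · rw [show (⟨b, hbC⟩ : ↥d.C) = 1 from Subtype.ext e, map_one, orderOf_one] at hbf
    exact hr.ne_one hbf.symm
  · have h1 := hwP _ (hg'P b hbP)
    show b * (g'⁻¹ * w * g' * w⁻¹) = g'⁻¹ * w * g' * w⁻¹ * b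
    have h2 : g'⁻¹ * w * g' * b * g'⁻¹ * w⁻¹ * g' = b := by
      calc g'⁻¹ * w * g' * b * g'⁻¹ * w⁻¹ * g' = g'⁻¹ * (w * (g' * b * g'⁻¹)) * w⁻¹ * g' := by group
        _ = b := by rw [h1.eq]; group
    have h3 : w⁻¹ * b = b * w⁻¹ := ((hwP b hbP).inv_left).eq
    calc b * (g'⁻¹ * w * g' * w⁻¹) = g'⁻¹ * w * g' * b * g'⁻¹ * w⁻¹ * g' * (g'⁻¹ * w * g' * w⁻¹) := by rw [h2]
      _ = g'⁻¹ * w * g' * (b * w⁻¹) := by group
      _ = _ := by rw [← h3]; group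
  · set t := g'⁻¹ * w * g' * w⁻¹ with ht
    have hzz : d.z * d.z = 1 := BG.invol_mul_self hd.zord
    have hwz' : w⁻¹ * d.z * w = d.z := by rw [mul_assoc, ← hwz.eq, inv_mul_cancel_left]
    have hwzu : w * (d.z * u) * w⁻¹ = u := by
      rw [show w * (d.z * u) * w⁻¹ = (w * d.z * w⁻¹) * (w * u * w⁻¹) by group, hwu,
        show w * d.z * w⁻¹ = d.z by rw [hwz.eq, mul_inv_cancel_right], ← mul_assoc, hzz, one_mul]
    have hwiu : w⁻¹ * u * w = d.z * u := by (conv_lhs => rw [← hwzu]); group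
    have gi1 : g'⁻¹ * (d.z * u) * g' = u := by rw [← e2]; group
    have gi2 : g'⁻¹ * d.z * g' = d.z * u := by (conv_lhs => rw [← e3]); group
    have ht1 : t * d.z * t⁻¹ = u := by
      rw [ht, show g'⁻¹ * w * g' * w⁻¹ * d.z * (g'⁻¹ * w * g' * w⁻¹)⁻¹ =
        g'⁻¹ * (w * (g' * (w⁻¹ * d.z * w) * g'⁻¹) * w⁻¹) * g' by group, hwz', e1, hwu, gi1]
    have ht2 : t * u * t⁻¹ = d.z * u := by
      rw [ht, show g'⁻¹ * w * g' * w⁻¹ * u * (g'⁻¹ * w * g' * w⁻¹)⁻¹ =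
        g'⁻¹ * (w * (g' * (w⁻¹ * u * w) * g'⁻¹) * w⁻¹) * g' by group, hwiu, e3, hwz.eq, mul_inv_cancel_right, gi2]
    rw [ht1]
    exact ⟨huz, huc.symm, ht2⟩

end CfsgLib.RankTwoModel
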