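import Cfsg.Agent.Lib.RankTwoModel.Basic

/-!
The part of the centraliser of an involution `v` inside the centraliser of a field element `a`.
-/

set_option autoImplicit false
set_option linter.unusedSectionVars false

namespace CfsgLib.RankTwoModel

universe u

variable {G : Type u} [Group G] [Finite G]

/-- `D` is a `SL₂(q₀)` of the centraliser of `v` centralised by `a`, with its properties used to find the component
of the centraliser of `a`. -/
structure Loc (r : ℕ) (a v : G) (D : Subgroup G) : Prop where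
  perfect : Group.IsPerfect D
  comm_a : ∀ x ∈ D, Commute a x
  comm_v : ∀ x ∈ D, Commute v x
  mem : v ∈ D
  odd : ∀ Y : Subgroup G, Odd (Nat.card Y) → (∀ y ∈ Y, Commute a y ∧ Commute v y) →
    (∀ x ∈ D, ∀ y ∈ Y, x * y * x⁻¹ ∈ Y) → ∀ P : Subgroup G, P ≤ Y → IsPGroup r P →
    ∀ i : G, orderOf i = 2 → Commute a i → Commute v i → (∀ y ∈ P, i * y * i⁻¹ ∈ P) → ∀ y ∈ P, Commute i y
  pair : ∀ i j : G, orderOf i = 2 → i ≠ v → Commute a i → Commute v i → orderOf j = 2 → j ≠ v → Commute a j →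
    Commute v j → ∃ x ∈ D, ∃ o : G, Odd (orderOf o) ∧ i * j = x * o
  elt : ∃ x ∈ D, ∀ Y : Subgroup G, Y ≤ D → Odd (Nat.card Y) → (∀ c ∈ D, ∀ y ∈ Y, c * y * c⁻¹ ∈ Y) →
    ∀ n : ℕ, x ^ n ∈ Y → 4 * r ∣ n
  swap : ∀ i : G, orderOf i = 2 → i ≠ v → Commute a i → Commute v i → ∃ x ∈ D, x * i * x⁻¹ = v * i

theorem commute_cj {g x y : G} (h : Commute x y) : Commute (g * x * g⁻¹) (g * y * g⁻¹) :=
  h.map (MulAut.conj g)

theorem commute_uncj {g x y : G} (h : Commute (g * x * g⁻¹) y) : Commute x (g⁻¹ * y * g) := by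
  have := h.map (MulAut.conj g⁻¹)
  simpa [mul_assoc] using this

/-- Transport of the data by conjugation. -/
theorem Loc.conj {r : ℕ} {a v : G} {D : Subgroup G} (K : Loc r a v D) (g : G) :
    Loc r (g * a * g⁻¹) (g * v * g⁻¹) (D.map (MulAut.conj g).toMonoidHom) := by
  haveI := K.perfect
  have hcu : ∀ y : G, g * (g⁻¹ * y * g) * g⁻¹ = y := fun y => by group
  have hord : ∀ i : G, orderOf (g⁻¹ * i * g) = orderOf i := fun i => by
    simpa using orderOf_cj g⁻¹ i
  have hne : ∀ i : G, i ≠ g * v * g⁻¹ → g⁻¹ * i * g ≠ v := fun i h e => h (by rw [← e, hcu])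
  have hD : ∀ x ∈ D, g * x * g⁻¹ ∈ D.map (MulAut.conj g).toMonoidHom := fun x hx => ⟨x, hx, rfl⟩
  have hback : ∀ (Y : Subgroup G) (y : G), y ∈ Y.map (MulAut.conj g⁻¹).toMonoidHom → g * y * g⁻¹ ∈ Y := by
    rintro Y y ⟨y', hy', rfl⟩
    simpa [mul_assoc] using hy'
  have hfwd : ∀ (Y : Subgroup G) (y : G), g * y * g⁻¹ ∈ Y → y ∈ Y.map (MulAut.conj g⁻¹).toMonoidHom :=
    fun Y y hy => ⟨_, hy, by simp [mul_assoc]⟩
  refine ⟨Group.IsPerfect.map _, ?_, ?_, hD v K.mem, fun Y hY hYc hYn P hPY hP i hi hai hvi hPi y hy => ?_,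
    fun i j hi hiv hai hvi hj hjv haj hvj => ?_, ?_, fun i hi hiv hai hvi => ?_⟩
  · rintro _ ⟨x, hx, rfl⟩; exact commute_cj (K.comm_a x hx)
  · rintro _ ⟨x, hx, rfl⟩; exact commute_cj (K.comm_v x hx)
  · have hc := K.odd (Y.map (MulAut.conj g⁻¹).toMonoidHom)
      (by rw [Subgroup.card_map_of_injective (MulAut.conj g⁻¹).injective]; exact hY)
      (fun y' hy' => by
        obtain ⟨h1, h2⟩ := hYc _ (hback Y y' hy')
        exact ⟨by simpa [mul_assoc] using commute_uncj h1, by simpa [mul_assoc] using commute_uncj h2⟩)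
      (fun x hx y' hy' => hfwd Y _ (by
        have h1 := hYn _ (hD x hx) _ (hback Y y' hy')
        simpa [mul_assoc] using h1))
      (P.map (MulAut.conj g⁻¹).toMonoidHom) (Subgroup.map_mono hPY) (hP.map _)
      (g⁻¹ * i * g) ((hord i).trans hi) (commute_uncj hai) (commute_uncj hvi)
      (fun y' hy' => hfwd P _ (by
        have h1 := hPi _ (hback P y' hy')
        simpa [mul_assoc] using h1))
      (g⁻¹ * y * g) (hfwd P _ (by rw [hcu]; exact hy))
    have := commute_cj (g := g) hc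
    rwa [hcu, hcu] at this
  · obtain ⟨x, hx, o, ho, e⟩ := K.pair (g⁻¹ * i * g) (g⁻¹ * j * g) ((hord i).trans hi) (hne i hiv)
      (commute_uncj hai) (commute_uncj hvi) ((hord j).trans hj) (hne j hjv) (commute_uncj haj) (commute_uncj hvj)
    refine ⟨_, hD x hx, g * o * g⁻¹, by rwa [orderOf_cj], ?_⟩
    rw [show g * x * g⁻¹ * (g * o * g⁻¹) = g * (x * o) * g⁻¹ by group, ← e]
    group
  · obtain ⟨x, hx, hxY⟩ := K.elt
    refine ⟨_, hD x hx, fun Y hYD hY hYn n hn => hxY (Y.map (MulAut.conj g⁻¹).toMonoidHom) ?_ ?_ ?_ n ?_⟩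
    · intro y hy
      obtain ⟨y', hy', e⟩ := hYD (hback Y y hy)
      exact (mul_left_cancel (mul_right_cancel (b := g⁻¹) e)) ▸ hy'
    · rw [Subgroup.card_map_of_injective (MulAut.conj g⁻¹).injective]; exact hY
    · intro c hc y hy
      refine hfwd Y _ ?_
      have h1 := hYn _ (hD c hc) _ (hback Y y hy)
      simpa [mul_assoc] using h1
    · refine hfwd Y _ ?_
      rwa [← conj_pow]
  · obtain ⟨x, hx, e⟩ := K.swap (g⁻¹ * i * g) ((hord i).trans hi) (hne i hiv) (commute_uncj hai) (commute_uncj hvi)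
    refine ⟨_, hD x hx, ?_⟩
    calc g * x * g⁻¹ * i * (g * x * g⁻¹)⁻¹ = g * (x * (g⁻¹ * i * g) * x⁻¹) * g⁻¹ := by group
      _ = g * v * g⁻¹ * i := by rw [e]; group

end CfsgLib.RankTwoModel
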