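import Cfsg.Agent.Lib.SL2Char.Tori
import Cfsg.Agent.Lib.GW.Model.Pgl

/-!
`SL₂(q₀)` has an element of order `4 r` for an odd divisor `r` of `qm`.
-/

set_option autoImplicit false
set_option linter.unusedSectionVars false

namespace CfsgLib.RankTwoModel.SL2

open Matrix
open scoped MatrixGroups

variable {F : Type} [Field F] [Fintype F]

local notation "M2" => Matrix (Fin 2) (Fin 2) F
local notation "SL" => Matrix.SpecialLinearGroup (Fin 2) F

theorem exists_order_four_mul (hodd : Odd (Fintype.card F)) {r : ℕ} (hr : Odd r) (hrm : r ∣ GW.Model.qm F) :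
    ∃ y : SL, orderOf y = 4 * r ∧ y ^ (2 * r) = -1 := by
  have h2 := GW.Model.two_ne_zero_of_odd hodd
  let X : SL := ⟨!![0, 1; -1, 0], by simp [Matrix.det_fin_two_of]⟩
  have htr : X.1.trace ^ 2 ≠ 4 := by
    have h0 : X.1.trace = 0 := by simp [X, Matrix.trace_fin_two]
    rw [h0, zero_pow two_ne_zero]
    intro h
    exact mul_ne_zero h2 h2 (by rw [h]; norm_num)
  obtain ⟨hc, hcard⟩ := SL2Tori.isCyclic_centralizer htr
  haveI := hc
  have hXX : X * X = -1 := Subtype.ext (by
    show (X.1 * X.1 : M2) = -1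
    ext i j; fin_cases i <;> fin_cases j <;> simp [X, Matrix.mul_apply, Fin.sum_univ_two])
  have hX4 : orderOf X = 2 ^ (1 + 1) := by
    refine orderOf_eq_prime_pow ?_ ?_
    · rw [pow_one, sq, hXX]
      intro h
      have h00 : (-1 : F) = 1 := by simpa using congrFun (congrFun (congrArg Subtype.val h) 0) 0
      exact h2 (by linear_combination (-1 : F) * h00)
    · rw [show (2 : ℕ) ^ (1 + 1) = 2 * 2 by norm_num, pow_mul, sq X, hXX, sq, neg_mul_neg, one_mul]
  have h4 : 4 ∣ Nat.card (Subgroup.centralizer ({X} : Set SL)) := by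
    have := Subgroup.orderOf_dvd_natCard (s := Subgroup.centralizer ({X} : Set SL)) (x := X)
      (Subgroup.mem_centralizer_singleton_iff.mpr rfl)
    rw [hX4] at this
    exact this
  have hqm : Nat.card (Subgroup.centralizer ({X} : Set SL)) = GW.Model.qm F := by
    obtain ⟨hqm4, -, -, -⟩ := GW.Model.qm_qp_arith hodd
    rw [Nat.odd_iff] at hodd
    have hq : 0 < Fintype.card F := Fintype.card_pos
    rw [GW.Model.qm] at hqm4 ⊢
    split_ifs with hm <;> rcases hcard with h | h <;> omega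
  obtain ⟨g, hg⟩ := IsCyclic.exists_generator (α := Subgroup.centralizer ({X} : Set SL))
  set n := Nat.card (Subgroup.centralizer ({X} : Set SL)) with hn
  have hgo : orderOf g = n := orderOf_eq_card_of_forall_mem_zpowers hg
  have h4r : 4 * r ∣ n := Nat.Coprime.mul_dvd_of_dvd_of_dvd
    (((Nat.coprime_two_left.mpr hr).pow_left 2 : Nat.Coprime (2 ^ 2) r)) h4 (hqm ▸ hrm)
  have hn0 : n ≠ 0 := Nat.card_pos.ne'
  set y : SL := ((g ^ (n / (4 * r)) : Subgroup.centralizer ({X} : Set SL)) : SL) with hy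
  have hr0 : 0 < r := hr.pos
  have hyo : orderOf y = 4 * r := by
    rw [hy, Subgroup.orderOf_coe,
      orderOf_pow_of_dvd (Nat.div_pos (Nat.le_of_dvd (Nat.pos_of_ne_zero hn0) h4r) (by omega)).ne'
        (by rw [hgo]; exact Nat.div_dvd_of_dvd h4r), hgo, Nat.div_div_self h4r hn0]
  refine ⟨y, hyo, ?_⟩
  have hsq : y ^ (2 * r) * y ^ (2 * r) = 1 := by
    rw [← pow_add, show 2 * r + 2 * r = 4 * r by ring, ← hyo, pow_orderOf_eq_one]
  refine (SL2Orders.eq_one_or_neg_one_of_sq h2 _ hsq).resolve_left fun h => ?_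
  have := orderOf_dvd_of_pow_eq_one h
  rw [hyo] at this
  exact absurd (Nat.le_of_dvd (by omega) this) (by omega)

end CfsgLib.RankTwoModel.SL2
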