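import Cfsg.Agent.Lib.RankTwoModel.PropCore
import Cfsg.Agent.Lib.RankTwo.PairTrivial
import Cfsg.Agent.Lib.RankTwoModel.FieldInner
import Cfsg.Agent.Lib.RankTwoModel.FieldElem.Kernel
import Cfsg.Agent.Lib.RankTwoModel.FieldElem.LocDef
import Cfsg.Agent.Lib.RankTwoModel.FieldElem.Torus

/-!
The centraliser of a field element in `C`.

* `Rep.exists_loc`: if `b` acts as a field automorphism of odd prime order `r | qm`, then `C(b) ∩ C` gives a `Loc`.
-/

set_option autoImplicit false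
set_option linter.unusedSectionVars false
set_option linter.style.haveILetI false

namespace CfsgLib.RankTwoModel

open Cfsg Subgroup
open scoped MatrixGroups

universe u

variable {G : Type u} [Group G] [Finite G] {d : Frame G}

local notation "SL[" d "]" => Matrix.SpecialLinearGroup (Fin 2) (Frame.F d)

namespace SL2

open Matrix CfsgLib.PSL2

variable {F : Type} [Field F] [Fintype F]

theorem qm_fixField (hodd : Odd (Fintype.card F)) (e : RingAut F) [Fintype (GW.Model.fixField e)] {r : ℕ}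
    [Fact r.Prime] (hr2 : r ≠ 2) (he : orderOf e = r) (hrm : r ∣ GW.Model.qm F) :
    Odd (Fintype.card (GW.Model.fixField e)) ∧ 3 < Fintype.card (GW.Model.fixField e) ∧
      r ∣ GW.Model.qm (GW.Model.fixField e) := by
  have hr : r.Prime := Fact.out
  set n := Fintype.card (GW.Model.fixField e) with hn
  have hq : n ^ r = Fintype.card F := by
    rw [hn, ← Nat.card_eq_fintype_card, ← he, GW.Model.card_fixField]
  have hnodd : Odd n := by
    rcases Nat.even_or_odd n with h | h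
    · exact absurd ((h.pow_of_ne_zero hr.ne_zero)) (by rw [hq]; exact Nat.not_even_iff_odd.2 hodd)
    · exact h
  obtain ⟨j, hj⟩ := hr.odd_of_ne_two hr2
  have hr3 : 3 ≤ r := by have := hr.two_le; omega
  have h4 : Fintype.card F % 4 = n % 4 := by
    rw [← hq, hj, pow_succ, pow_mul, Nat.mul_mod, Nat.pow_mod, Nat.pow_mod n 2]
    rcases (show n % 4 = 1 ∨ n % 4 = 3 by rw [Nat.odd_iff] at hnodd; omega) with h | h <;> rw [h] <;> simp
  have hn0 : 0 < n := Fintype.card_pos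
  have hF0 : 0 < Fintype.card F := Fintype.card_pos
  have hz : ((Fintype.card F : ℕ) : ZMod r) = (n : ZMod r) := by
    rw [← hq, Nat.cast_pow, ZMod.pow_card]
  have hdvd : r ∣ GW.Model.qm (GW.Model.fixField e) := by
    rw [GW.Model.qm, ← ZMod.natCast_eq_zero_iff] at hrm
    rw [GW.Model.qm, ← hn, ← ZMod.natCast_eq_zero_iff]
    rw [h4] at hrm
    split_ifs with hm <;> simp only [hm, if_true, if_false] at hrm
    · rwa [Nat.cast_sub (by omega), Nat.cast_one, ← hz, ← Nat.cast_one, ← Nat.cast_sub (by omega)]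
    · rwa [Nat.cast_add, ← hz, ← Nat.cast_add]
  refine ⟨hnodd, ?_, hdvd⟩
  obtain ⟨h4', -, -, -⟩ := GW.Model.qm_qp_arith (F := GW.Model.fixField e) hnodd
  have h5 : 4 * r ∣ GW.Model.qm (GW.Model.fixField e) := Nat.Coprime.mul_dvd_of_dvd_of_dvd
    (((Nat.coprime_two_left.mpr (hr.odd_of_ne_two hr2)).pow_left 2 : Nat.Coprime (2 ^ 2) r)) h4' hdvd
  rw [GW.Model.qm, ← hn] at h5
  rw [Nat.odd_iff] at hnodd
  split_ifs at h5 with hm
  · have h1 : n ≠ 1 := by
      have := Fintype.one_lt_card (α := GW.Model.fixField e)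
      omega
    have := Nat.le_of_dvd (by omega) h5
    omega
  · have := Nat.le_of_dvd (by omega) h5
    omega

end SL2

open SL2 PSL2

variable (R : Rep d) (hd : d.Spec) (hq : 3 < d.q)

include hd hq in
/-- **The centraliser of a field element.** -/
theorem Rep.exists_loc (h : Hyp G) (hsd : IsQuasiDihedral (d.S : Subgroup G))
    (hOD : ∀ x ∈ d.O, ∀ y ∈ d.D, x * y = y * x) {r : ℕ} [Fact r.Prime] (hr2 : r ≠ 2)
    (hI : ∀ v ∈ d.C, orderOf v = 2 → ∀ x ∈ d.O, (∃ k : ℕ, x ^ r ^ k = 1) → v * x * v⁻¹ = x⁻¹ → x = 1)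
    {e : RingAut d.F}
    (he : orderOf e = r) (hrm : r ∣ GW.Model.qm d.F) {b : G} (hb : b ∈ d.C) (hσ : R.σ ⟨b, hb⟩ = fieldSL e) :
    ∃ D : Subgroup G, Loc r b d.z D := by
  classical
  have hr : r.Prime := Fact.out
  haveI : Fact (Nat.Prime 2) := ⟨Nat.prime_two⟩
  haveI : Fintype (GW.Model.fixField e) := Fintype.ofFinite _
  obtain ⟨hodd0, h30, hrm0⟩ := qm_fixField hd.odd_card e hr2 he hrm
  let j0 : Matrix.SpecialLinearGroup (Fin 2) ↥(GW.Model.fixField e) →* SL[d] :=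
    Matrix.SpecialLinearGroup.map (GW.Model.fixField e).subtype
  have hj0 : Function.Injective j0 := fun A B hAB => Subtype.ext (Matrix.ext fun i k =>
    Subtype.ext (congrFun (congrFun (congrArg Subtype.val hAB) i) k))
  have hj0r : j0.range = fixSL e := rfl
  haveI : Group.IsPerfect (Matrix.SpecialLinearGroup (Fin 2) ↥(GW.Model.fixField e)) := ⟨CfsgLib.StSL.perfect_SL2 h30⟩
  haveI hfp : Group.IsPerfect (fixSL (F := d.F) e) :=
    Group.IsPerfect.ofSurjective (f := j0.rangeRestrict) j0.rangeRestrict_surjective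
  have h2 := SL2Orders.two_ne_zero_of_odd hd.odd_card
  have hm1 : (-1 : SL[d]) ∈ fixSL e := mem_fixSL.2 (Subtype.ext (by
    rw [fieldSL_val]; ext i k; fin_cases i <;> fin_cases k <;> simp))
  -- normal subgroups of the fixed points
  have hnormal : ∀ N : Subgroup SL[d], N ≤ fixSL e → (∀ A ∈ fixSL e, ∀ B ∈ N, A * B * A⁻¹ ∈ N) →
      (∀ B ∈ N, B = 1 ∨ B = -1) ∨ fixSL e ≤ N := by
    intro N hN hn
    haveI : (N.comap j0).Normal := ⟨fun B hB A => by
      show j0 (A * B * A⁻¹) ∈ N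
      rw [map_mul, map_mul, map_inv]
      exact hn _ ⟨A, rfl⟩ _ hB⟩
    rcases sl2_normal_or_top h30 (N.comap j0) with hc | ht
    · left
      intro B hB
      obtain ⟨B0, rfl⟩ := hN hB
      obtain ⟨s, hs, hsB⟩ := Matrix.SpecialLinearGroup.mem_center_iff.1 (hc (show B0 ∈ N.comap j0 from hB))
      refine SL2Orders.eq_one_or_neg_one_of_sq h2 _ ?_
      rw [← map_mul, show B0 * B0 = 1 from Subtype.ext (by
        show B0.1 * B0.1 = 1
        rw [← hsB, ← map_mul, ← sq, show s ^ 2 = 1 from by simpa using hs, map_one]), map_one]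
    · right
      rintro _ ⟨A, rfl⟩
      exact (ht ▸ Subgroup.mem_top A : A ∈ N.comap j0)
  -- the perfect cover
  set P0 : Subgroup G := ((fixSL e).comap R.π).map d.L.subtype with hP0
  obtain ⟨k, hk⟩ := CfsgLib.GW.exists_perfect_derived ↥P0
  haveI := hk
  set D : Subgroup G := (derivedSeries ↥P0 k).map P0.subtype with hD
  haveI hDp : Group.IsPerfect D := Group.IsPerfect.map _
  have hP0L : P0 ≤ d.L := Subgroup.map_subtype_le _
  have hDP : D ≤ P0 := Subgroup.map_subtype_le _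
  have hDL : D ≤ d.L := hDP.trans hP0L
  have hDC : D ≤ d.C := hDL.trans d.L_le
  have hDD : D ≤ d.D := d.le_D hDC
  have hP0fix : ∀ {x : G} (hx : x ∈ P0), R.π ⟨x, hP0L hx⟩ ∈ fixSL e := by
    rintro _ ⟨y, hy, rfl⟩; exact hy
  have hfixmem : ∀ {x : ↥d.L}, R.π x ∈ fixSL e → (x : G) ∈ P0 := fun {x} hx => ⟨x, hx, rfl⟩
  let f : P0 →* fixSL (F := d.F) e :=
    (R.π.comp (Subgroup.inclusion hP0L)).codRestrict _ fun x => hP0fix x.2
  have hf : Function.Surjective f := fun A => by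
    obtain ⟨x, hx⟩ := R.surj A.1
    exact ⟨⟨x, hfixmem (hx.symm ▸ A.2)⟩, Subtype.ext hx⟩
  have hsurjD : ∀ A ∈ fixSL e, ∃ (x : G) (hx : x ∈ D), R.π ⟨x, hDL hx⟩ = A := by
    intro A hA
    obtain ⟨x, hx, e1⟩ := ((map_derivedSeries_eq hf k).trans (Group.IsPerfect.derivedSeries_eq_top _ k)).ge
      (Subgroup.mem_top (⟨A, hA⟩ : fixSL (F := d.F) e))
    exact ⟨x, ⟨x, hx, rfl⟩, congrArg Subtype.val e1⟩
  have hzD : d.z ∈ D := by
    obtain ⟨x, hx, hxe⟩ := hsurjD (-1) hm1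
    rw [← R.pi_z hd, eq_comm, ← inv_mul_eq_one, ← map_inv, ← map_mul] at hxe
    have ho : d.z⁻¹ * x ∈ d.O := (R.ker _).1 hxe
    obtain ⟨m, hm⟩ := d.O_odd
    have hco : Commute d.z (d.z⁻¹ * x) := (Frame.Spec.z_central (d.O_le ho)).symm
    have h1 : x ^ Nat.card d.O = d.z := by
      rw [show x = d.z * (d.z⁻¹ * x) by group, hco.mul_pow,
        show (d.z⁻¹ * x) ^ Nat.card d.O = 1 from congrArg Subtype.val (pow_card_eq_one' (x := (⟨_, ho⟩ : d.O))),
        mul_one, hm, pow_succ, pow_mul, ← hd.zord, pow_orderOf_eq_one, one_pow, one_mul]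
    exact h1 ▸ pow_mem hx _
  have hDz : ∀ x ∈ D, Commute d.z x := fun x hx => (Frame.Spec.z_central (hDC hx)).symm
  have hfixσ : ∀ {c : G} (hc : c ∈ d.C), Commute b c → Commute (R.σ ⟨c, hc⟩) (fieldSL e) := fun {c} hc hbc => by
    rw [← hσ]
    exact ((show Commute (⟨b, hb⟩ : ↥d.C) ⟨c, hc⟩ from Subtype.ext hbc.eq).map R.σ).symm
  have hDb : ∀ x ∈ D, Commute b x := fun x hx =>
    comm_of_commutators (P := D) (S := d.O) (CfsgLib.OddOrder.feitThompson d.O_odd)
      (fun y hy s hs => (hOD s hs y (hDD hy)).symm) (fun y hy => by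
        refine (R.ker ⟨b * y * b⁻¹ * y⁻¹, mul_mem (d.L_conj hb (hDL hy)) (inv_mem (hDL hy))⟩).1 ?_
        have h1 : R.π ⟨b * y * b⁻¹, d.L_conj hb (hDL hy)⟩ = R.π ⟨y, hDL hy⟩ := by
          rw [← R.compat ⟨b, hb⟩ ⟨y, hDL hy⟩, hσ]
          exact mem_fixSL.1 (hP0fix (hDP hy))
        rw [show (⟨b * y * b⁻¹ * y⁻¹, _⟩ : ↥d.L) = ⟨b * y * b⁻¹, d.L_conj hb (hDL hy)⟩ * ⟨y, hDL hy⟩⁻¹ from rfl,
          map_mul, h1, map_inv, mul_inv_cancel]) x hx
  have hDn : ∀ {c : G}, c ∈ d.C → Commute b c → ∀ x ∈ D, c * x * c⁻¹ ∈ D := by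
    intro c hc hbc x hx
    haveI : Group.IsPerfect (D.map (MulAut.conj c).toMonoidHom) := Group.IsPerfect.map _
    have hle : D.map (MulAut.conj c).toMonoidHom ≤ P0 := by
      rintro _ ⟨y, hy, rfl⟩
      refine hfixmem (x := ⟨c * y * c⁻¹, d.L_conj hc (hDL hy)⟩) ?_
      rw [← R.compat ⟨c, hc⟩ ⟨y, hDL hy⟩, mem_fixSL, ← MulAut.mul_apply, ← (hfixσ hc hbc).eq, MulAut.mul_apply,
        mem_fixSL.1 (hP0fix (hDP hy))]
    haveI : Group.IsPerfect ((D.map (MulAut.conj c).toMonoidHom).subgroupOf P0) :=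
      Group.IsPerfect.ofSurjective (f := (Subgroup.subgroupOfEquivOfLe hle).symm.toMonoidHom)
        (Subgroup.subgroupOfEquivOfLe hle).symm.surjective
    have hmem : c * x * c⁻¹ ∈ D.map (MulAut.conj c).toMonoidHom := ⟨x, hx, rfl⟩
    exact ⟨⟨_, hle hmem⟩, CfsgLib.GW.perfect_le_derived ((D.map (MulAut.conj c).toMonoidHom).subgroupOf P0) k
      (Subgroup.mem_subgroupOf.2 hmem), rfl⟩
  -- involutions
  have hinv : ∀ {i : G}, orderOf i = 2 → i ≠ d.z → Commute b i → ∀ hi : i ∈ d.C,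
      ∃ g : GL (Fin 2) d.F, R.σ ⟨i, hi⟩ = conjSL g ∧ g.1.map e = g.1 := by
    intro i hi hiz hbi hiC
    obtain ⟨g, -, -, hg⟩ := R.invol hd hq h hiC hi hiz
    have hg' : R.σ ⟨i, hiC⟩ = conjSL g := MulEquiv.ext fun A => Subtype.ext (hg A)
    obtain ⟨g0, hg0, hg0e⟩ := over_fix (show Commute (conjSL g) (fieldSL e) from hg' ▸ hfixσ hiC hbi)
    exact ⟨g0, hg'.trans hg0.symm, hg0e⟩
  refine ⟨D, hDp, hDb, hDz, hzD, fun Y hY hYc hYn P hPY hP i hi hbi hzi hPi y hyP => ?_,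
    fun i j hi hiz hbi hzi hj hjz hbj hzj => ?_, ?_, fun i hi hiz hbi hzi => ?_⟩
  · -- odd subgroups normalised by `D`
    have hYC : ∀ {y : G}, y ∈ Y → y ∈ d.C := fun hy =>
      Subgroup.mem_centralizer_singleton_iff.mpr (hYc _ hy).2.symm.eq
    have hcD : ∀ y ∈ Y, ∀ x ∈ D, Commute y x := by
      intro y hy x hx
      set N : Subgroup SL[d] := ((Y ⊓ D).subgroupOf d.L).map R.π with hN
      have hNle : N ≤ fixSL e := by
        rintro _ ⟨t, ht, rfl⟩
        exact hP0fix (hDP (Subgroup.mem_subgroupOf.1 ht).2)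
      have hNn : ∀ A ∈ fixSL e, ∀ B ∈ N, A * B * A⁻¹ ∈ N := by
        rintro A hA _ ⟨t, ht, rfl⟩
        obtain ⟨x, hxD, rfl⟩ := hsurjD A hA
        refine ⟨⟨x, hDL hxD⟩ * t * ⟨x, hDL hxD⟩⁻¹, ?_, by rw [map_mul, map_mul, map_inv]⟩
        have ht' := Subgroup.mem_subgroupOf.1 ht
        exact ⟨hYn x hxD _ ht'.1, D.mul_mem (D.mul_mem hxD ht'.2) (D.inv_mem hxD)⟩
      have hNodd : Odd (Nat.card N) := by
        refine hY.of_dvd_nat (((Subgroup.card_map_dvd _ R.π).trans ?_))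
        rw [Nat.card_congr (Subgroup.subgroupOfEquivOfLe (inf_le_right.trans hDL)).toEquiv]
        exact Subgroup.card_dvd_of_le inf_le_left
      have hN1 : ∀ B ∈ N, B = 1 := by
        have hm : (-1 : SL[d]) ∉ N := fun hm => by
          have h1 := hNodd.of_dvd_nat (Subgroup.orderOf_dvd_natCard N hm)
          have h2' : orderOf (-1 : SL[d]) ∣ 2 := orderOf_dvd_of_pow_eq_one (by rw [sq, neg_mul_neg, one_mul])
          rcases (Nat.dvd_prime Nat.prime_two).1 h2' with e1 | e1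
          · have e2 : (-1 : SL[d]) = 1 := orderOf_eq_one_iff.1 e1
            have h00 : (-1 : d.F) = 1 := by
              simpa using congrFun (congrFun (congrArg Subtype.val e2) 0) 0
            exact h2 (by linear_combination (-1 : d.F) * h00)
          · rw [e1] at h1; exact absurd h1 (by decide)
        intro B hB
        rcases hnormal N hNle hNn with hc | htop
        · exact (hc B hB).resolve_right fun e1 => hm (e1 ▸ hB)
        · exact absurd (htop hm1) hm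
      refine comm_of_commutators (P := D) (S := d.O) (CfsgLib.OddOrder.feitThompson d.O_odd)
        (fun y hy s hs => (hOD s hs y (hDD hy)).symm) (fun t ht => ?_) x hx
      have htY : y * t * y⁻¹ * t⁻¹ ∈ Y := by
        rw [show y * t * y⁻¹ * t⁻¹ = y * (t * y⁻¹ * t⁻¹) by group]
        exact mul_mem hy (hYn t ht _ (inv_mem hy))
      have htD : y * t * y⁻¹ * t⁻¹ ∈ D := mul_mem (hDn (hYC hy) (hYc y hy).1 t ht) (inv_mem ht)
      exact (R.ker ⟨_, hDL htD⟩).1 (hN1 _ ⟨⟨_, hDL htD⟩, Subgroup.mem_subgroupOf.2 ⟨htY, htD⟩, rfl⟩)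
    have hy : y ∈ Y := hPY hyP
    by_cases hiz : i = d.z
    · exact hiz ▸ (hYc y hy).2
    have hiC : i ∈ d.C := Subgroup.mem_centralizer_singleton_iff.mpr hzi.symm.eq
    obtain ⟨g, hg, hge⟩ := hinv hi hiz hbi hiC
    haveI := Fact.mk hd.prime
    haveI := hd.charP
    obtain ⟨k, f', hk'⟩ := exists_semi d.p (hd.three_lt hq) (R.σ ⟨y, hYC hy⟩)
    have hk'' := eq_semi hk'
    obtain ⟨hk1, hf'⟩ := field_of_fix_fixSL e f' (g := k) fun A hA => by
      obtain ⟨x, hxD, rfl⟩ := hsurjD A hA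
      rw [← hk'', R.compat]
      congr 1
      exact Subtype.ext (by
        show y * x * y⁻¹ = x
        rw [(hcD y hy x hxD).eq, mul_inv_cancel_right])
    rw [hk1, one_mul] at hk''
    have hcom : R.σ (⟨i, hiC⟩ * ⟨y, hYC hy⟩ * ⟨i, hiC⟩⁻¹ * ⟨y, hYC hy⟩⁻¹) = 1 := by
      have hcc : Commute (conjSL g) (fieldSL f') := by
        show conjSL g * fieldSL f' = fieldSL f' * conjSL g
        rw [fieldSL_conjSL, show Matrix.GeneralLinearGroup.map f'.toRingHom g = g from Units.ext (Matrix.ext fun a c =>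
          hf' _ (congrFun (congrFun hge a) c))]
      rw [map_mul, map_mul, map_mul, map_inv, map_inv, hg, hk'', hcc.eq, mul_inv_cancel_right, mul_inv_cancel]
    have hmem : i * y * i⁻¹ * y⁻¹ ∈ d.C :=
      mul_mem (mul_mem (mul_mem hiC (hYC hy)) (inv_mem hiC)) (inv_mem (hYC hy))
    obtain ⟨o, ho, hoe⟩ := R.sigma_kernel hd hq h hsd hmem hcom
    have hii : i * i = 1 := BG.invol_mul_self hi
    have hwP : i * y * i⁻¹ * y⁻¹ ∈ P := mul_mem (hPi y hyP) (inv_mem hyP)
    obtain ⟨k, hk⟩ := hP ⟨_, hwP⟩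
    have hk' : (i * y * i⁻¹ * y⁻¹) ^ r ^ k = 1 := congrArg Subtype.val hk
    rcases hoe with hoe | hoe
    · have hinvert : i * o * i⁻¹ = o⁻¹ := by
        rw [← hoe]
        calc i * (i * y * i⁻¹ * y⁻¹) * i⁻¹ = (i * i) * y * i⁻¹ * y⁻¹ * i⁻¹ := by group
          _ = y * i⁻¹ * y⁻¹ * i⁻¹ := by rw [hii, one_mul]
          _ = (i * y * i * y⁻¹)⁻¹ := by group
          _ = (i * y * i⁻¹ * y⁻¹)⁻¹ := by rw [inv_eq_of_mul_eq_one_right hii]
      rw [hI i hiC hi o ho ⟨k, hoe ▸ hk'⟩ hinvert, mul_inv_eq_one, mul_inv_eq_iff_eq_mul] at hoe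
      exact hoe
    · exfalso
      have hco : Commute d.z o := (Frame.Spec.z_central (d.O_le ho)).symm
      rw [hoe] at hk'
      obtain ⟨j, hj⟩ := ((hr.odd_of_ne_two hr2).pow (n := k)).mul d.O_odd
      have h1 : (d.z * o) ^ (r ^ k * Nat.card d.O) = 1 := by rw [pow_mul, hk', one_pow]
      rw [hco.mul_pow, show o ^ (r ^ k * Nat.card d.O) = 1 by
          rw [mul_comm (r ^ k), pow_mul, show o ^ Nat.card d.O = 1 from
            congrArg Subtype.val (pow_card_eq_one' (x := (⟨o, ho⟩ : d.O))), one_pow],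
        mul_one, hj, pow_succ, pow_mul, ← hd.zord, pow_orderOf_eq_one, one_pow, one_mul] at h1
      exact BG.ne_one_of_invol hd.zord h1
  · -- products of two involutions
    have hiC : i ∈ d.C := Subgroup.mem_centralizer_singleton_iff.mpr hzi.symm.eq
    have hjC : j ∈ d.C := Subgroup.mem_centralizer_singleton_iff.mpr hzj.symm.eq
    obtain ⟨g, hg, hge⟩ := hinv hi hiz hbi hiC
    obtain ⟨g', hg', hge'⟩ := hinv hj hjz hbj hjC
    have hsq : IsSquare ((g * g').1.det) := by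
      rw [Units.val_mul, Matrix.det_mul, CfsgLib.OmegaMem.isSquare_mul_iff h2 (GW.Model.det_ne g)
        (GW.Model.det_ne g')]
      exact iff_of_false (R.outer hd hq h hsd hiC hi hiz hg) (R.outer hd hq h hsd hjC hj hjz hg')
    have hmap : (g * g').1.map e = (g * g').1 := by rw [Units.val_mul, Matrix.map_mul, hge, hge']
    obtain ⟨s, hes, hss⟩ := sqrt_fix (he ▸ hr.odd_of_ne_two hr2)
      (show e (g * g').1.det = (g * g').1.det by
        rw [show e (g * g').1.det = e.toRingHom (g * g').1.det from rfl, RingHom.map_det]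
        exact congrArg Matrix.det hmap) hsq
    have hs0 : s ≠ 0 := fun h0 => GW.Model.det_ne (g * g') (by rw [← hss, h0, zero_mul])
    let A : SL[d] := ⟨s⁻¹ • (g * g').1, by
      rw [Matrix.det_smul, ← hss, Fintype.card_fin]
      field_simp⟩
    have hA : A ∈ fixSL e := mem_fixSL.2 (Subtype.ext (by
      rw [fieldSL_val]
      ext a c
      show e (s⁻¹ * (g * g').1 a c) = s⁻¹ * (g * g').1 a c
      rw [map_mul, map_inv₀, hes]
      congr 1
      exact congrFun (congrFun hmap a) c))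
    obtain ⟨x, hx, hxA⟩ := hsurjD A hA
    have hσA : R.σ ⟨x, hDC hx⟩ = conjSL (g * g') := by
      rw [show conjSL (g * g') = conjSL (Matrix.SpecialLinearGroup.toGL A) from
        (conjSL_smul (c := s⁻¹) rfl (inv_ne_zero hs0)).symm]
      refine MulEquiv.ext fun B => Subtype.ext ?_
      rw [show (⟨x, hDC hx⟩ : ↥d.C) = ⟨x, d.L_le (hDL hx)⟩ from rfl, R.sigma_inner ⟨x, hDL hx⟩, hxA, coe_conjSL,
        ← map_inv]
      rfl
    obtain ⟨o, ho, hoe⟩ := R.sigma_kernel hd hq h hsd (mul_mem (inv_mem (hDC hx)) (mul_mem hiC hjC)) (by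
      show R.σ (⟨x, hDC hx⟩⁻¹ * (⟨i, hiC⟩ * ⟨j, hjC⟩)) = 1
      rw [map_mul, map_inv, map_mul, hσA, hg, hg', map_mul, inv_mul_cancel])
    have hoo : Odd (orderOf o) := d.O_odd.of_dvd_nat (Subgroup.orderOf_dvd_natCard _ ho)
    rcases hoe with hoe | hoe
    · exact ⟨x, hx, o, hoo, eq_mul_of_inv_mul_eq hoe⟩
    · exact ⟨x * d.z, mul_mem hx hzD, o, hoo, by
        rw [mul_assoc]; exact eq_mul_of_inv_mul_eq hoe⟩
  · -- the element of order `4 r`
    obtain ⟨y0, hy0, -⟩ := exists_order_four_mul hodd0 (hr.odd_of_ne_two hr2) hrm0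
    obtain ⟨x, hx, hxy⟩ := hsurjD (j0 y0) ⟨y0, rfl⟩
    refine ⟨x, hx, fun Y hYD hY hYn n hn => ?_⟩
    set N : Subgroup SL[d] := (Y.subgroupOf d.L).map R.π with hN
    have hNle : N ≤ fixSL e := by
      rintro _ ⟨t, ht, rfl⟩
      exact hP0fix (hDP (hYD (Subgroup.mem_subgroupOf.1 ht)))
    have hNn : ∀ A ∈ fixSL e, ∀ B ∈ N, A * B * A⁻¹ ∈ N := by
      rintro A hA _ ⟨t, ht, rfl⟩
      obtain ⟨c, hcD, rfl⟩ := hsurjD A hA
      exact ⟨⟨c, hDL hcD⟩ * t * ⟨c, hDL hcD⟩⁻¹, hYn c hcD _ (Subgroup.mem_subgroupOf.1 ht),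
        by rw [map_mul, map_mul, map_inv]⟩
    have hNodd : Odd (Nat.card N) := by
      refine hY.of_dvd_nat ((Subgroup.card_map_dvd _ R.π).trans ?_)
      rw [Nat.card_congr (Subgroup.subgroupOfEquivOfLe (hYD.trans hDL)).toEquiv]
    have hm : (-1 : SL[d]) ∉ N := fun hm => by
      have h1 := hNodd.of_dvd_nat (Subgroup.orderOf_dvd_natCard N hm)
      have hne : (-1 : SL[d]) ≠ 1 := fun e2 => by
        have h00 : (-1 : d.F) = 1 := by
          simpa using congrFun (congrFun (congrArg Subtype.val e2) 0) 0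
        exact h2 (by linear_combination (-1 : d.F) * h00)
      rw [orderOf_eq_prime (p := 2) (by rw [sq, neg_mul_neg, one_mul]) hne] at h1
      exact absurd h1 (by decide)
    have hmemN : R.π ⟨x, hDL hx⟩ ^ n ∈ N := by
      rw [← map_pow]; exact ⟨_, Subgroup.mem_subgroupOf.2 hn, rfl⟩
    rcases hnormal N hNle hNn with hc | htop
    · have h1 : j0 (y0 ^ n) = j0 1 := by
        rw [map_pow, map_one, ← hxy]
        exact (hc _ hmemN).resolve_right fun e1 => hm (e1 ▸ hmemN)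
      rw [← hy0]
      exact orderOf_dvd_of_pow_eq_one (hj0 h1)
    · exact absurd (htop hm1) hm
  · -- the swap
    have hiC : i ∈ d.C := Subgroup.mem_centralizer_singleton_iff.mpr hzi.symm.eq
    obtain ⟨g, hg, hge⟩ := hinv hi hiz hbi hiC
    haveI := Fintype.ofFinite G
    obtain ⟨g₁, htr₁, -, hg₁⟩ := R.invol hd hq h hiC hi hiz
    obtain ⟨a, ha⟩ : ∃ a : d.F, g.1 = a • g₁.1 := by
      have h1 : conjSL (g₁⁻¹ * g) = 1 := by
        rw [map_mul, map_inv, show conjSL g₁ = R.σ ⟨i, hiC⟩ from MulEquiv.ext fun A => Subtype.ext (hg₁ A).symm, hg,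
          inv_mul_cancel]
      obtain ⟨-, h2⟩ := semi_eq_one (g := g₁⁻¹ * g) (e := RingEquiv.refl d.F) (by
        rw [h1, show fieldSL (RingEquiv.refl d.F) = 1 from fieldSL_one, one_mul])
      exact ⟨(g₁⁻¹ * g).1 0 0, by
        calc g.1 = g₁.1 * (g₁⁻¹ * g).1 := by rw [← Units.val_mul, mul_inv_cancel_left]
          _ = g₁.1 * ((g₁⁻¹ * g).1 0 0 • 1) := congrArg (fun N => g₁.1 * N) h2
          _ = _ := by rw [Matrix.mul_smul, mul_one]⟩
    have htr : g.1.trace = 0 := by rw [ha, Matrix.trace_smul, htr₁, smul_zero]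
    have hmem : ∀ a b, g.1 a b ∈ GW.Model.fixField e := fun a b => congrFun (congrFun hge a) b
    let M0 : Matrix (Fin 2) (Fin 2) (GW.Model.fixField e) := Matrix.of fun a b => ⟨g.1 a b, hmem a b⟩
    have hM0 : (GW.Model.fixField e).subtype.mapMatrix M0 = g.1 := Matrix.ext fun _ _ => rfl
    have hdet0 : M0.det ≠ 0 := fun h0 => GW.Model.det_ne g (by rw [← hM0, ← RingHom.map_det, h0, map_zero])
    obtain ⟨A0, hA0⟩ := exists_anticomm hodd0 (Matrix.GeneralLinearGroup.mkOfDetNeZero M0 hdet0) (by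
      refine (GW.Model.fixField e).subtype.injective ?_
      show ((M0.trace : GW.Model.fixField e) : d.F) = ((0 : GW.Model.fixField e) : d.F)
      rw [Matrix.trace_fin_two] at htr
      rw [Matrix.trace_fin_two]
      simpa [M0] using htr)
    obtain ⟨y, hy, hyA⟩ := hsurjD (j0 A0) ⟨A0, rfl⟩
    have hanti : g.1 * (j0 A0).1 * (g⁻¹).1 = -(j0 A0).1 := by
      have h1 := congrArg (fun N => N * M0) hA0
      simp only [Matrix.mul_assoc] at h1
      rw [show ((Matrix.GeneralLinearGroup.mkOfDetNeZero M0 hdet0)⁻¹).1 * M0 = 1 from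
        (Matrix.GeneralLinearGroup.mkOfDetNeZero M0 hdet0).inv_mul, mul_one] at h1
      have h2 := congrArg (GW.Model.fixField e).subtype.mapMatrix h1
      rw [map_mul, map_mul, map_neg, hM0] at h2
      have h3 : g.1 * (j0 A0).1 = -(j0 A0).1 * g.1 := h2
      rw [h3, Matrix.neg_mul, Matrix.neg_mul, Matrix.mul_assoc, ← Units.val_mul, mul_inv_cancel, Units.val_one,
        Matrix.mul_one]
    have hzz : d.z * d.z = 1 := BG.invol_mul_self hd.zord
    have hii : i * i = 1 := BG.invol_mul_self hi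
    have hiinv : i⁻¹ = i := inv_eq_of_mul_eq_one_right hii
    have hcz : i * d.z = d.z * i := Frame.Spec.z_central hiC
    have hzi2 : orderOf (d.z * i) = 2 := BG.orderOf_mul_invol hd.zord hi hcz.symm hiz
    have hσ : R.σ ⟨i, hiC⟩ (j0 A0) = R.π ⟨d.z, hd.z_mem_L⟩ * j0 A0 := by
      rw [hg, R.pi_z hd]
      exact Subtype.ext ((coe_conjSL g _).trans (hanti.trans (by simp)))
    rw [← hyA, R.compat, ← map_mul, eq_comm, ← inv_mul_eq_one, ← map_inv, ← map_mul] at hσ
    have hO : (d.z * y)⁻¹ * (i * y * i⁻¹) ∈ d.O := (R.ker _).1 hσ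
    set E := d.O ⊓ D with hE
    have hwE : (d.z * i) * (y * i * y⁻¹) ∈ E := by
      constructor
      · rw [show (d.z * i) * (y * i * y⁻¹) = y * ((d.z * y)⁻¹ * (i * y * i⁻¹)) * y⁻¹ by
          rw [mul_inv_rev, hiinv, inv_eq_of_mul_eq_one_right hzz]; group]
        exact Frame.Spec.O_conj (hDC hy) hO
      · show _ ∈ D
        rw [show (d.z * i) * (y * i * y⁻¹) = d.z * (i * y * i⁻¹) * y⁻¹ by rw [hiinv]; group]
        exact mul_mem (mul_mem hzD (hDn hiC hbi y hy)) (inv_mem hy)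
    have hzbi : Commute b (d.z * i) := (hDb d.z hzD).mul_right hbi
    have hziC : d.z * i ∈ d.C := mul_mem Frame.Spec.z_mem_C hiC
    obtain ⟨o, ho, c, hc, hcz', hoc⟩ := CfsgLib.RankTwo.coset_conj E
      (d.O_odd.of_dvd_nat (Subgroup.card_dvd_of_le inf_le_left)) (BG.invol_mul_self hzi2)
      (fun x hx => ⟨Frame.Spec.O_conj hziC hx.1, hDn hziC hzbi x hx.2⟩) hwE
    rw [← mul_assoc (d.z * i) (d.z * i), BG.invol_mul_self hzi2, one_mul] at hoc
    have hcc : c * c = 1 := by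
      have h1 : (d.z * i * c) * (d.z * i * c) = 1 := by
        rw [← hoc, show o * (y * i * y⁻¹) * o⁻¹ * (o * (y * i * y⁻¹) * o⁻¹) = o * (y * (i * i) * y⁻¹) * o⁻¹ by group,
          hii]
        group
      rwa [mul_assoc (d.z * i) c, ← mul_assoc c, hcz', mul_assoc (d.z * i) c c, ← mul_assoc (d.z * i) (d.z * i),
        BG.invol_mul_self hzi2, one_mul] at h1
    have hc1 : c = 1 := by
      by_contra hne
      exact BG.not_mem_of_odd (d.O_odd.of_dvd_nat (Subgroup.card_dvd_of_le inf_le_left))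
        (orderOf_eq_prime (by rw [pow_two, hcc]) hne) hc
    rw [hc1, mul_one] at hoc
    refine ⟨o * y, mul_mem ho.2 hy, ?_⟩
    rw [← hoc]
    group

end CfsgLib.RankTwoModel
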