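import Cfsg.Agent.Lib.RankTwoModel.CMax.Model
import Cfsg.Agent.Lib.RankTwoModel.Rows.Main
import Cfsg.Agent.Lib.CharTheory.Burnside
import Cfsg.Agent.Lib.SL2Char.Tori
import Cfsg.Agent.Lib.UnitaryOrder
import Mathlib.GroupTheory.IsPerfect

/-!
In a model with semidihedral type Sylow 2-subgroups an odd prime `r` with an element of order `4 r` in a perfect
subgroup of an involution centraliser does not divide the number of involutions.
-/

set_option autoImplicit false
set_option linter.unusedSectionVars false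
set_option linter.style.haveILetI false

namespace CfsgLib.RankTwoModel.FieldElem

open Cfsg Matrix
open scoped MatrixGroups

universe u v w

/-- An element of order divisible by `4 r` lies in a torus of order divisible by `4 r`. -/
theorem four_mul_dvd {K : Type v} [Field K] [Fintype K] (hodd : Odd (Fintype.card K)) {r : ℕ}
    {g : Matrix.SpecialLinearGroup (Fin 2) K} (hg : 4 * r ∣ orderOf g) :
    (Fintype.card K % 4 = 1 → r ∣ Fintype.card K - 1) ∧ (Fintype.card K % 4 = 3 → r ∣ Fintype.card K + 1) := by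
  obtain ⟨p, hp⟩ := CharP.exists K
  haveI := hp
  haveI : Fact p.Prime := ⟨CharP.char_is_prime K p⟩
  have hp2 := GW.Model.p_ne_two p hodd
  obtain ⟨c, hc⟩ := hg
  have hg0 := orderOf_pos g
  have hc0 : c ≠ 0 := fun e => by rw [e, mul_zero] at hc; omega
  have hyo : orderOf (g ^ c) = 4 * r := by
    rw [orderOf_pow_of_dvd hc0 (hc ▸ dvd_mul_left c _), hc, Nat.mul_div_cancel _ (Nat.pos_of_ne_zero hc0)]
  have htr : (g ^ c).1.trace ^ 2 ≠ 4 := fun e => by
    have h1 := orderOf_dvd_of_pow_eq_one (SL2Tori.pow_two_mul_char p e)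
    rw [hyo, show 4 * r = 2 * (2 * r) by ring] at h1
    have h2 : 2 ∣ p := (dvd_mul_right 2 r).trans (Nat.dvd_of_mul_dvd_mul_left two_pos h1)
    exact hp2 ((Nat.prime_dvd_prime_iff_eq Nat.prime_two (Fact.out : p.Prime)).1 h2).symm
  obtain ⟨-, hcard⟩ := SL2Tori.isCyclic_centralizer htr
  have h4 : 4 * r ∣ Nat.card (Subgroup.centralizer ({g ^ c} : Set (Matrix.SpecialLinearGroup (Fin 2) K))) := by
    rw [← hyo]
    exact Subgroup.orderOf_dvd_natCard _ (Subgroup.mem_centralizer_singleton_iff.2 rfl)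
  have hq : 0 < Fintype.card K := Fintype.card_pos
  constructor <;> intro hmod <;> rcases hcard with e | e <;> rw [e] at h4
  · exact (dvd_mul_left r 4).trans h4
  · have := (dvd_mul_right 4 r).trans h4; omega
  · have := (dvd_mul_right 4 r).trans h4; omega
  · exact (dvd_mul_left r 4).trans h4

/-- A perfect subgroup of an image comes from the kernel of a map to an abelian group. -/
theorem perfect_le_map_ker {Γ : Type v} {X : Type u} {A : Type w} [Group Γ] [Group X] [CommGroup A] (ψ : Γ →* X)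
    (dt : Γ →* A) {D : Subgroup X} (hD : Group.IsPerfect D) (hle : D ≤ ψ.range) : D ≤ dt.ker.map ψ := by
  haveI := hD
  refine le_trans ?_ (Subgroup.map_mono (f := ψ) (Abelianization.commutator_subset_ker dt))
  rw [commutator_def, Subgroup.map_commutator, ← MonoidHom.range_eq_map]
  exact (Subgroup.commutator_eq_self (H := D)).ge.trans (Subgroup.commutator_mono hle hle)

/-- The index of an involution centraliser divides that of a subgroup centralising a lift. -/
theorem index_centralizer_dvd {Γ : Type v} {H : Type w} {X : Type u} [Group Γ] [Group H] [Group X] [Finite H]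
    (φ : Γ →* H) (hinj : Function.Injective φ) (π : H →* X) (hπ : Function.Surjective π) {m : Γ}
    (hm : m ∈ Subgroup.center Γ) (hmm : m * m = 1) (hm1 : π (φ m) ≠ 1)
    (hall : ∀ a b : X, orderOf a = 2 → orderOf b = 2 → IsConj a b) {t : X} (ht : orderOf t = 2) :
    ∃ n, n * Nat.card Γ = Nat.card H ∧ (Subgroup.centralizer ({t} : Set X)).index ∣ n := by
  refine ⟨φ.range.index, ?_, ?_⟩
  · rw [Nat.card_congr (MonoidHom.ofInjective hinj).toEquiv, mul_comm, Subgroup.card_mul_index]
  have ht0 : orderOf (π (φ m)) = 2 :=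
    orderOf_eq_prime (by rw [sq, ← map_mul, ← map_mul, hmm, map_one, map_one]) hm1
  obtain ⟨g, hg⟩ := isConj_iff.1 (hall _ _ ht0 ht)
  have hle : (φ.range.map π).map (MulAut.conj g).toMonoidHom ≤ Subgroup.centralizer ({t} : Set X) := by
    rintro _ ⟨_, ⟨_, ⟨a, rfl⟩, rfl⟩, rfl⟩
    refine Subgroup.mem_centralizer_singleton_iff.2 ?_
    rw [← hg]
    have e : π (φ a) * π (φ m) = π (φ m) * π (φ a) := by
      rw [← map_mul, ← map_mul, ← map_mul, ← map_mul, Subgroup.mem_center_iff.1 hm a]
    show g * π (φ a) * g⁻¹ * (g * π (φ m) * g⁻¹) = g * π (φ m) * g⁻¹ * (g * π (φ a) * g⁻¹)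
    calc g * π (φ a) * g⁻¹ * (g * π (φ m) * g⁻¹) = g * (π (φ a) * π (φ m)) * g⁻¹ := by group
      _ = _ := by rw [e]; group
  refine (Subgroup.index_dvd_of_le hle).trans ?_
  rw [Subgroup.index_map_of_bijective (MulAut.conj g).bijective]
  exact Subgroup.index_map_dvd _ hπ

theorem ne_one_of_odd_center {H : Type w} [Group H] [Finite H] (hZ : Odd (Nat.card (Subgroup.center H))) {x : H}
    (hx : x * x = 1) (hx1 : x ≠ 1) : (QuotientGroup.mk' (Subgroup.center H)) x ≠ 1 := fun e =>
  CfsgLib.BG.not_mem_of_odd hZ (orderOf_eq_prime (by rw [sq]; exact hx) hx1) ((QuotientGroup.eq_one_iff x).1 e)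

theorem odd_gcd_three (n : ℕ) : Odd (Nat.gcd 3 n) :=
  (show Odd 3 by decide).of_dvd_nat (Nat.gcd_dvd_left _ _)

section

variable {X : Type u} [Group X] [Finite X]

theorem index_l3 (hall : ∀ a b : X, orderOf a = 2 → orderOf b = 2 → IsConj a b) {F : Type v} [Field F] [Fintype F]
    (hF : Odd (Fintype.card F)) (e : X ≃* Matrix.ProjectiveSpecialLinearGroup (Fin 3) F) {t : X}
    (ht : orderOf t = 2) :
    (Subgroup.centralizer ({t} : Set X)).index ∣
      Fintype.card F ^ 2 * (Fintype.card F ^ 2 + Fintype.card F + 1) := by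
  classical
  have h2 := GW.Model.two_ne_zero_of_odd hF
  set q := Fintype.card F with hq
  let φ : GL (Fin 2) F →* Matrix.SpecialLinearGroup (Fin 3) F :=
    { toFun := fun A => ⟨PSLThree.emb A.1, PSLThree.emb_det (GW.Model.det_ne A)⟩
      map_one' := Subtype.ext (by show PSLThree.emb (1 : GL (Fin 2) F).1 = 1; rw [Units.val_one, PSLThree.emb_one])
      map_mul' := fun A B => Subtype.ext (by
        show PSLThree.emb (A * B).1 = PSLThree.emb A.1 * PSLThree.emb B.1
        rw [Units.val_mul, PSLThree.emb_mul]) }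
  have hinj : Function.Injective φ := fun A B h => by
    refine Units.ext (Matrix.ext fun i j => ?_)
    have h0 : PSLThree.emb A.1 = PSLThree.emb B.1 := congrArg Subtype.val h
    have h1 := congrFun (congrFun h0 i.castSucc) j.castSucc
    fin_cases i <;> fin_cases j <;> simpa [PSLThree.emb] using h1
  have hm1 : (-1 : GL (Fin 2) F) ≠ 1 := fun h => by
    have h' : (-1 : Matrix (Fin 2) (Fin 2) F) = 1 := congrArg Units.val h
    have h00 : (-1 : F) = 1 := by simpa using congrFun (congrFun h' 0) 0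
    exact h2 (by linear_combination (-1 : F) * h00)
  obtain ⟨n, hn, hdvd⟩ := index_centralizer_dvd φ hinj
    (e.symm.toMonoidHom.comp (QuotientGroup.mk' (Subgroup.center _)))
    (e.symm.surjective.comp (QuotientGroup.mk'_surjective _)) (m := -1)
    (Subgroup.mem_center_iff.2 fun g => by rw [mul_neg, neg_mul, mul_one, one_mul]) (by rw [neg_mul_neg, one_mul])
    (fun h => by
      rw [MonoidHom.comp_apply, MulEquiv.coe_toMonoidHom, map_eq_one_iff _ e.symm.injective] at h
      refine ne_one_of_odd_center ?_ (x := φ (-1)) (by rw [← map_mul, neg_mul_neg, one_mul, map_one])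
        (fun h1 => hm1 (hinj (h1.trans (map_one φ).symm))) h
      rw [SLCard.card_SL_center (by norm_num)]
      exact odd_gcd_three _) hall ht
  have h3' := SLCard.card_units_mul_card_SL (F := F) (n := 3) (by norm_num)
  rw [← hn, Matrix.card_GL_field, Matrix.card_GL_field, Fin.prod_univ_three, Fin.prod_univ_two, ← hq] at h3'
  simp only [Fin.val_zero, Fin.val_one, Fin.val_two, pow_zero, pow_one] at h3'
  obtain ⟨j, hj⟩ : ∃ j, q = j + 2 := ⟨q - 2, by have := Fintype.one_lt_card (α := F); omega⟩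
  have hni : n = q ^ 2 * (q ^ 2 + q + 1) := by
    rw [hj, show j + 2 - 1 = j + 1 by omega,
      show (j + 2) ^ 3 - 1 = (j + 1) * ((j + 2) ^ 2 + (j + 2) + 1) by
        rw [Nat.sub_eq_iff_eq_add (Nat.one_le_pow _ _ (by omega))]; ring,
      show (j + 2) ^ 2 - 1 = (j + 1) * (j + 3) by
        rw [Nat.sub_eq_iff_eq_add (Nat.one_le_pow _ _ (by omega))]; ring,
      show (j + 2) ^ 2 - (j + 2) = (j + 2) * (j + 1) by
        rw [Nat.sub_eq_iff_eq_add (Nat.le_self_pow (by norm_num) _)]; ring,
      show (j + 2) ^ 3 - (j + 2) = (j + 2) * ((j + 1) * (j + 3)) by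
        rw [Nat.sub_eq_iff_eq_add (Nat.le_self_pow (by norm_num) _)]; ring,
      show (j + 2) ^ 3 - (j + 2) ^ 2 = (j + 2) ^ 2 * (j + 1) by
        rw [Nat.sub_eq_iff_eq_add (Nat.pow_le_pow_right (by omega) (by norm_num))]; ring] at h3'
    rw [hj]
    refine Nat.eq_of_mul_eq_mul_left (show 0 < (j + 1) * ((j + 1) * (j + 3) * ((j + 2) * (j + 1))) by positivity) ?_
    linear_combination h3'
  rwa [hni] at hdvd

theorem index_u3 (hall : ∀ a b : X, orderOf a = 2 → orderOf b = 2 → IsConj a b) {F : Type v} [Field F] [Fintype F]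
    {q : ℕ} (hF : Fintype.card F = q ^ 2) (hodd : Odd q) (e : X ≃* Cfsg.PSU 3 F q) {t : X} (ht : orderOf t = 2) :
    (Subgroup.centralizer ({t} : Set X)).index ∣ q ^ 2 * (q ^ 2 - q + 1) := by
  classical
  have hFodd : Odd (Fintype.card F) := hF ▸ hodd.pow
  have h2 := GW.Model.two_ne_zero_of_odd hFodd
  have hmem : (-1 : GL (Fin 2) F) ∈ Cfsg.GU 2 F q := by
    intro u v
    show Cfsg.hermForm 2 F q ((-1 : Matrix (Fin 2) (Fin 2) F) *ᵥ u) ((-1 : Matrix (Fin 2) (Fin 2) F) *ᵥ v) = _
    simp [Cfsg.hermForm, Matrix.neg_mulVec, hodd.neg_pow]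
  set m : ↥(Cfsg.GU 2 F q) := ⟨-1, hmem⟩ with hm
  have hmm : m * m = 1 := Subtype.ext (by simp [m])
  have hm1 : m ≠ 1 := fun h => by
    have h00 : (-1 : F) = 1 := by simpa [m] using congrArg (fun x : ↥(Cfsg.GU 2 F q) => x.1.1 0 0) h
    exact h2 (by linear_combination (-1 : F) * h00)
  obtain ⟨n, hn, hdvd⟩ := index_centralizer_dvd (PSUThree.toSU hF) (PSUThree.toSU_injective hF)
    (e.symm.toMonoidHom.comp (QuotientGroup.mk' (Subgroup.center (Cfsg.SU 3 F q))))
    (e.symm.surjective.comp (QuotientGroup.mk'_surjective _)) (m := m)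
    (Subgroup.mem_center_iff.2 fun g => Subtype.ext (by simp [m])) hmm
    (fun h => by
      rw [MonoidHom.comp_apply, MulEquiv.coe_toMonoidHom, map_eq_one_iff _ e.symm.injective] at h
      refine ne_one_of_odd_center ?_ (by rw [← map_mul, hmm, map_one])
        (fun h1 => hm1 (PSUThree.toSU_injective hF (h1.trans (map_one _).symm))) h
      rw [Cfsg.Agent.S0280.center_card hF 3 (by norm_num)]
      exact odd_gcd_three _) hall ht
  have h3' := CfsgLib.UnitaryOrder.card_GU_eq hF (n := 3) (by norm_num)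
  rw [← hn, CfsgLib.UnitaryOrder.card_GU hF 3, CfsgLib.UnitaryOrder.card_GU hF 2,
    show Finset.range 3 = {0, 1, 2} by decide, show Finset.range 2 = {0, 1} by decide] at h3'
  simp [Finset.prod_insert, show ¬ Even 1 by decide, show Even 2 by decide] at h3'
  have hqq : q ≤ q ^ 2 := Nat.le_self_pow two_ne_zero q
  have hq0 : 0 < q := hodd.pos
  have hq1 : 1 ≤ q ^ 2 := Nat.one_le_pow 2 q hq0
  have hq2 : 1 < q := by
    by_contra hc
    have h1 := Fintype.one_lt_card (α := F)
    rw [show q = 1 by omega, one_pow] at hF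
    omega
  have hni : n = q ^ 2 * (q ^ 2 - q + 1) := by
    have hpos : 0 < q ^ 2 - 1 := by have := Nat.one_lt_pow two_ne_zero hq2; omega
    refine Nat.eq_of_mul_eq_mul_left (show 0 < (q + 1) * (q * (q + 1) * (q ^ 2 - 1)) by positivity) ?_
    zify [hqq, hq1] at h3' ⊢
    linear_combination -h3'
  rwa [hni] at hdvd

/-- **The model count**: `r` does not divide the number of involutions. -/
theorem model_index (hs : IsSimpleGroup X) (hq : QW X) (hm : Model X)
    (hno : ∀ a b : X, orderOf a = 4 → orderOf b = 4 → Commute a b → a * a = b * b)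
    {r : ℕ} (hr : r.Prime) {t : X} (ht : orderOf t = 2) {D : Subgroup X} (hD : Group.IsPerfect D)
    (hDt : D ≤ Subgroup.centralizer ({t} : Set X)) {x : X} (hx : x ∈ D) (hxo : 4 * r ∣ orderOf x) :
    ¬ r ∣ (Subgroup.centralizer ({t} : Set X)).index := by
  classical
  have hall := QW.all_conj hs hq
  intro hdvd
  rcases hm with ⟨F, hFi, hFf, hFo, ⟨e⟩⟩ | ⟨F, hFi, hFf, q, hFq, hqo, ⟨e⟩⟩ | hM
  · -- `L₃(q)`
    have h4 : Fintype.card F % 4 = 3 := by
      rcases (show Fintype.card F % 4 = 1 ∨ Fintype.card F % 4 = 3 by rw [Nat.odd_iff] at hFo; omega) with h | h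
      · exact (Rows.not_sl_one_of hno h e).elim
      · exact h
    obtain ⟨Z, hZn, -, -, ⟨ι⟩⟩ := PSLThree.exists_centralizer_iso hFo (e t) ((e.orderOf_eq t).trans ht)
    let ψ := ((Subgroup.centralizer ({e t} : Set _)).subtype.comp ι.symm.toMonoidHom).comp (QuotientGroup.mk' Z)
    haveI := hD
    have hle : D.map e.toMonoidHom ≤ ψ.range := by
      rintro _ ⟨y, hy, rfl⟩
      have hc : e y ∈ Subgroup.centralizer ({e t} : Set _) := Subgroup.mem_centralizer_singleton_iff.2 (by
        rw [← map_mul, ← map_mul, Subgroup.mem_centralizer_singleton_iff.1 (hDt hy)])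
      obtain ⟨g, hg⟩ := QuotientGroup.mk'_surjective Z (ι ⟨e y, hc⟩)
      exact ⟨g, show ((ι.symm (QuotientGroup.mk' Z g) : Subgroup.centralizer ({e t} : Set _)) : _) = e y by
        rw [hg, ι.symm_apply_apply]⟩
    obtain ⟨g, hg, hgx⟩ := perfect_le_map_ker ψ GeneralLinearGroup.det (Group.IsPerfect.map e.toMonoidHom) hle
      ⟨x, hx, rfl⟩
    let A : Matrix.SpecialLinearGroup (Fin 2) F := ⟨g.1, congrArg Units.val hg⟩
    have hA : 4 * r ∣ orderOf A := by
      rw [← orderOf_injective _ SLCard.toGL_injective A, show Matrix.SpecialLinearGroup.toGL A = g from Units.ext rfl]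
      refine hxo.trans (dvd_trans (dvd_of_eq ?_) (orderOf_map_dvd ψ g))
      rw [hgx]
      exact (e.orderOf_eq x).symm
    have hr1 := (four_mul_dvd hFo hA).2 h4
    have h := hdvd.trans (index_l3 hall hFo e ht)
    rw [← ZMod.natCast_eq_zero_iff, Nat.cast_mul, Nat.cast_pow, Nat.cast_add, Nat.cast_add, Nat.cast_pow,
      Nat.cast_one] at h
    rw [← ZMod.natCast_eq_zero_iff, Nat.cast_add, Nat.cast_one] at hr1
    haveI := Fact.mk hr
    rw [eq_neg_of_add_eq_zero_left hr1] at h
    simp at h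
  · -- `U₃(q)`
    have h4 : q % 4 = 1 := by
      rcases (show q % 4 = 1 ∨ q % 4 = 3 by rw [Nat.odd_iff] at hqo; omega) with h | h
      · exact h
      · exact (Rows.not_su_three_of hno hFq h e).elim
    obtain ⟨f, -, t0, ht0, hf⟩ := psu_centralizer hFq hqo
    obtain ⟨c, hc⟩ := isConj_iff.1 (hall t (e.symm t0) ht ((e.symm.orderOf_eq t0).trans ht0))
    let θ : X →* Cfsg.PSU 3 F q := e.toMonoidHom.comp (MulAut.conj c).toMonoidHom
    have hθ : Function.Injective θ := e.injective.comp (MulAut.conj c).injective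
    have hθt : θ t = t0 := by
      show e (c * t * c⁻¹) = t0
      rw [hc, e.apply_symm_apply]
    haveI := hD
    have hle : D.map θ ≤ f.range := by
      rintro _ ⟨y, hy, rfl⟩
      rw [hf, Subgroup.mem_centralizer_singleton_iff, ← hθt, ← map_mul, ← map_mul,
        Subgroup.mem_centralizer_singleton_iff.1 (hDt hy)]
    obtain ⟨g, hg, hgx⟩ := perfect_le_map_ker f (GeneralLinearGroup.det.comp (Cfsg.GU 2 F q).subtype)
      (Group.IsPerfect.map θ) hle ⟨x, hx, rfl⟩
    obtain ⟨K, _, _, hK⟩ := CfsgLib.SUCover.exists_K hFq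
    obtain ⟨φ, B, -, Φ, -⟩ := CfsgLib.Phan.exists_sl_model hFq hK
    let ι₀ : ↥(Cfsg.SU 2 F q) →* ↥(Cfsg.GU 2 F q) :=
      (Matrix.SpecialLinearGroup.toGL.comp (Cfsg.SU 2 F q).subtype).codRestrict (Cfsg.GU 2 F q) fun y => y.2
    have hι₀ : Function.Injective ι₀ := fun a b h => Subtype.ext (Subtype.ext (congrArg (fun y => y.1.1) h))
    let A : Matrix.SpecialLinearGroup (Fin 2) K := Φ.symm ⟨⟨g.1.1, congrArg Units.val hg⟩, g.2⟩
    have hAg : ι₀ (Φ A) = g := Subtype.ext (Units.ext (by
      show (Φ (Φ.symm _)).1.1 = g.1.1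
      rw [MulEquiv.apply_symm_apply]))
    have hA : 4 * r ∣ orderOf A := by
      rw [← Φ.orderOf_eq, ← orderOf_injective ι₀ hι₀, hAg]
      refine hxo.trans (dvd_trans (dvd_of_eq ?_) (orderOf_map_dvd f g))
      rw [hgx]
      exact (orderOf_injective θ hθ x).symm
    have hKo : Odd (Fintype.card K) := hK.symm ▸ hqo
    have hr1 := (four_mul_dvd hKo hA).1 (hK.symm ▸ h4)
    rw [hK] at hr1
    have h := hdvd.trans (index_u3 hall hFq hqo e ht)
    have hq0 : 0 < q := hqo.pos
    rw [← ZMod.natCast_eq_zero_iff, Nat.cast_mul, Nat.cast_add, Nat.cast_sub (Nat.le_self_pow two_ne_zero q),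
      Nat.cast_pow, Nat.cast_one] at h
    rw [← ZMod.natCast_eq_zero_iff, Nat.cast_sub hq0, Nat.cast_one] at hr1
    haveI := Fact.mk hr
    rw [sub_eq_zero.1 hr1] at h
    simp at h
  · -- `M₁₁`
    haveI := Fintype.ofFinite X
    have hcard := CfsgSimpleM11.cent_involution hM ht
    have hdiv : Nat.card D ∣ 2 ^ 4 * 3 ^ 1 := by
      have := Subgroup.card_dvd_of_le hDt
      rwa [hcard, show (48 : ℕ) = 2 ^ 4 * 3 ^ 1 by norm_num] at this
    obtain ⟨a, b, ha, hb, hab⟩ := Nat.dvd_mul.1 hdiv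
    obtain ⟨i, -, rfl⟩ := (Nat.dvd_prime_pow Nat.prime_two).1 ha
    obtain ⟨j, -, rfl⟩ := (Nat.dvd_prime_pow Nat.prime_three).1 hb
    haveI := hD
    haveI hsol : Group.IsSolvable D :=
      CfsgLib.CharTheory.isSolvable_of_card_two_primes Nat.prime_two Nat.prime_three hab.symm
    haveI : Subsingleton D := by
      by_contra hns
      rw [not_subsingleton_iff_nontrivial] at hns
      haveI := hns
      exact Group.IsPerfect.not_isSolvable D hsol
    have hx1 : x = 1 := congrArg Subtype.val (Subsingleton.elim (⟨x, hx⟩ : D) 1)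
    rw [hx1, orderOf_one, Nat.dvd_one] at hxo
    omega

end

end CfsgLib.RankTwoModel.FieldElem
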