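import Cfsg.Agent.Lib.RankTwoModel.FieldElem.Fusion
import Cfsg.Agent.Lib.RankTwoModel.FieldElem.ModelIndex
import Cfsg.Agent.Lib.RankTwoModel.FieldElem.Count
import Cfsg.Agent.Lib.RankTwo.RecogLayer
import Cfsg.Agent.Lib.CoprimeGen

/-!
An odd prime that is the order of a field part of an element of the centraliser of an involution does not divide
the number of involutions (semidihedral Sylow 2-subgroups).

* `Rep.no_index_dvd`: the statement.
-/

set_option autoImplicit false
set_option linter.unusedSectionVars false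
set_option linter.style.haveILetI false

namespace CfsgLib.RankTwoModel

open Cfsg

universe u

/-- An element of odd order whose square lies in a subgroup lies in it. -/
theorem mem_of_sq_mem_of_odd {G : Type u} [Group G] {X : Subgroup G} {o : G} (ho : Odd (orderOf o))
    (h : o * o ∈ X) : o ∈ X := by
  obtain ⟨j, hj⟩ := ho
  have e : (o * o) ^ (j + 1) = o := by
    rw [← pow_two, ← pow_mul, show 2 * (j + 1) = orderOf o + 1 by omega, pow_succ, pow_orderOf_eq_one, one_mul]
  exact e ▸ pow_mem h (j + 1)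

variable {G : Type u} [Group G] [Finite G] {d : Frame G}
variable (R : Rep d) (hd : d.Spec) (hq : 3 < d.q)

include hd hq in
/-- **The number of involutions is prime to the order of a field part.** -/
theorem Rep.no_index_dvd (h : Hyp G) (hsd : IsQuasiDihedral (d.S : Subgroup G))
    (hOD : ∀ x ∈ d.O, ∀ y ∈ d.D, x * y = y * x) {r : ℕ} [Fact r.Prime] (hr2 : r ≠ 2)
    (hI : ∀ w ∈ d.C, orderOf w = 2 → ∀ x ∈ d.O, (∃ k : ℕ, x ^ r ^ k = 1) → w * x * w⁻¹ = x⁻¹ → x = 1)
    (hrm : r ∣ GW.Model.qm d.F) (hf : ∃ c : ↥d.C, orderOf (R.field hd c) = r) : ¬ r ∣ d.C.index := by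
  classical
  have hr : r.Prime := Fact.out
  intro hdvd
  obtain ⟨b, D, t, hb1, ⟨kb, hkb⟩, hL, hbt, hne, hcm, htu⟩ := R.exists_fusion hd hq h hsd hOD hr2 hI hrm hf
  set u := t * d.z * t⁻¹ with hu
  set H := Subgroup.centralizer ({b} : Set G) with hHdef
  have hbH : ∀ {x : G}, x ∈ H → Commute b x := fun {x} hx => (Subgroup.mem_centralizer_singleton_iff.1 hx).symm
  have hHb : ∀ {x : G}, Commute b x → x ∈ H := fun {x} hx => Subgroup.mem_centralizer_singleton_iff.2 hx.symm.eq
  have hH : H ≠ ⊤ := by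
    intro htop
    haveI := h.simple
    rcases (inferInstance : (Subgroup.center G).Normal).eq_bot_or_eq_top with hc | hc
    · refine hb1 (Subgroup.mem_bot.1 (hc ▸ Subgroup.mem_center_iff.2 fun g => ?_))
      exact (hbH (htop ▸ Subgroup.mem_top g)).symm.eq
    · exact h.noncomm ⟨⟨fun a c => (Subgroup.mem_center_iff.1 (hc ▸ Subgroup.mem_top c) a)⟩⟩
  have hDH : D ≤ H := fun x hx => hHb (hL.comm_a x hx)
  obtain ⟨X, hXH, hXn, hXp, hK, hzX, huX, hXs, hXq, hXm⟩ :=
    h.exists_layer_perfect hd hH hDH hL.perfect hL.mem (fun x hx => (hL.comm_v x hx).symm.eq)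
      (hHb hbt) hne hcm.eq
  have hDX : D ≤ X := hXp D hDH hL.perfect
  have hodd : Odd (Nat.card (oddCore X)) := CfsgLib.odd_card_oddCore
  set π := QuotientGroup.mk' (oddCore X) with hπ
  set K : Subgroup G := (oddCore X).map X.subtype with hKdef
  have hKn : ∀ x ∈ H, ∀ y ∈ K, x * y * x⁻¹ ∈ K := by
    intro x hx y hy
    rw [hK] at hy ⊢
    obtain ⟨y', hy', rfl⟩ := hy
    exact ⟨_, (inferInstance : (oddCore H).Normal).conj_mem y' hy' ⟨x, hx⟩, rfl⟩
  have hKodd : Odd (Nat.card K) := by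
    rw [hKdef, Subgroup.card_map_of_injective X.subtype_injective]; exact hodd
  have hz : orderOf d.z = 2 := hd.zord
  have hu2 : orderOf u = 2 := (orderOf_cj t d.z).trans hz
  have hzu : Commute d.z u := hcm.symm
  have hbu : Commute b u := hbH (hXH huX)
  have hbz : Commute b d.z := hbH (hXH hzX)
  have hπ2 : ∀ c : ↥X, orderOf c = 2 → orderOf (π c) = 2 := fun c hc =>
    orderOf_eq_prime (by rw [pow_two, ← map_mul, BG.invol_mul_self hc, map_one])
      fun e => BG.not_mem_of_odd hodd hc ((QuotientGroup.eq_one_iff c).1 e)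
  set z' : ↥X := ⟨d.z, hzX⟩ with hz'
  have hz'2 : orderOf z' = 2 := (Subgroup.orderOf_mk _ hzX).trans hz
  have hall : ∀ c : ↥X, orderOf c = 2 → ∃ k : ↥X, k * z' * k⁻¹ = c := by
    intro c hc
    obtain ⟨g, hg⟩ := isConj_iff.1 (hXq.all_conj hXs (π z') (π c) (hπ2 z' hz'2) (hπ2 c hc))
    obtain ⟨g', rfl⟩ := QuotientGroup.mk'_surjective _ g
    obtain ⟨k, -, hk⟩ := FieldElem.conj_of_quotient (oddCore X) hodd hz'2 hc (g := g')
      (show π (g' * z' * g'⁻¹) = π c by rw [map_mul, map_mul, map_inv, hg])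
    exact ⟨k, hk⟩
  -- every involution of `H` lies in `X`
  have hA1 : ∀ c : G, c ∈ H → orderOf c = 2 → Commute d.z c → c ∈ X := by
    intro c hcH hc hzc
    by_cases hcz : c = d.z
    · exact hcz ▸ hzX
    obtain ⟨x, hx, o, ho, e⟩ := hL.pair c u hc hcz (hbH hcH) hzc hu2 hne hbu hzu
    have huu : u * u = 1 := BG.invol_mul_self hu2
    have hce : c = x * o * u := by rw [← e, mul_assoc, huu, mul_one]
    have hoe : o = x⁻¹ * c * u := by rw [hce]; simp only [mul_assoc, inv_mul_cancel_left, huu, mul_one]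
    have hoo : o * o ∈ X := by
      have h1 : c * (u * x⁻¹) * c⁻¹ ∈ X := hXn c hcH _ (mul_mem huX (inv_mem (hDX hx)))
      have : o * o = x⁻¹ * (c * (u * x⁻¹) * c⁻¹) * (c * c) * u := by rw [hoe]; group
      rw [this, BG.invol_mul_self hc, mul_one]
      exact mul_mem (mul_mem (inv_mem (hDX hx)) h1) huX
    rw [hce]
    exact mul_mem (mul_mem (hDX hx) (mem_of_sq_mem_of_odd ho hoo)) huX
  have hA : ∀ c : G, c ∈ H → orderOf c = 2 → c ∈ X := by
    intro c hcH hc
    have hzH : d.z ∈ H := hXH hzX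
    rcases FieldElem.invol_pair hz hc with ⟨i, e⟩ | ⟨i, hj2, hjz, hjc⟩
    · exact e ▸ hXn _ (pow_mem (mul_mem hzH hcH) i) _ hzX
    · have hjX := hA1 _ (pow_mem (mul_mem hzH hcH) i) hj2 hjz
      obtain ⟨k, hk⟩ := hall ⟨_, hjX⟩ ((Subgroup.orderOf_mk _ hjX).trans hj2)
      have hk' : (k : G) * d.z * (k : G)⁻¹ = (d.z * c) ^ i := congrArg Subtype.val hk
      have hzk : Commute d.z ((k : G)⁻¹ * c * k) := commute_uncj (hk' ▸ hjc.symm)
      have h1 := hA1 _ (mul_mem (mul_mem (inv_mem (hXH k.2)) hcH) (hXH k.2))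
        (by simpa using (orderOf_cj (k : G)⁻¹ c).trans hc) hzk
      have h2 := mul_mem (mul_mem k.2 h1) (inv_mem k.2)
      rwa [show (k : G) * ((k : G)⁻¹ * c * k) * (k : G)⁻¹ = c by group] at h2
  -- counting
  set C1 := Subgroup.centralizer ({z'} : Set ↥X) with hC1
  have hdvd1 : r ∣ C1.index := by
    have e1 := FieldElem.card_invol_eq_index hz fun c hc => h.exists_conj _ _ hz hc
    have e2 : Nat.card {c : G // orderOf c = 2 ∧ Commute b c} = C1.index := by
      rw [← FieldElem.card_invol_eq_index hz'2 hall]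
      exact Nat.card_congr
        { toFun := fun c => ⟨⟨c.1, hA c.1 (hHb c.2.2) c.2.1⟩, (Subgroup.orderOf_mk _ _).trans c.2.1⟩
          invFun := fun c => ⟨c.1.1, (Subgroup.orderOf_coe c.1).trans c.2, hbH (hXH c.1.2)⟩
          left_inv := fun _ => rfl
          right_inv := fun _ => rfl }
    have e3 := FieldElem.card_invol_modEq (Γ := G) (r := r) hkb
    rw [e1, e2] at e3
    exact (e3.dvd_iff dvd_rfl).1 hdvd
  -- the centraliser in the quotient
  set Cb := Subgroup.centralizer ({π z'} : Set (↥X ⧸ oddCore X)) with hCb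
  have hCbe : Cb = C1.map π := by
    refine le_antisymm (fun y hy => ?_) ?_
    · obtain ⟨g, rfl⟩ := QuotientGroup.mk'_surjective _ y
      obtain ⟨k, hkN, hk⟩ := FieldElem.conj_of_quotient (oddCore X) hodd hz'2 hz'2 (g := g)
        (show π (g * z' * g⁻¹) = π z' by
          rw [map_mul, map_mul, map_inv, Subgroup.mem_centralizer_singleton_iff.1 hy, mul_inv_cancel_right])
      refine ⟨k, Subgroup.mem_centralizer_singleton_iff.2 (mul_inv_eq_iff_eq_mul.1 hk), ?_⟩
      exact mul_inv_eq_one.1 (by rw [← map_inv, ← map_mul]; exact (QuotientGroup.eq_one_iff _).2 hkN)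
    · rintro _ ⟨k, hk, rfl⟩
      refine Subgroup.mem_centralizer_singleton_iff.2 ?_
      rw [← map_mul, ← map_mul, Subgroup.mem_centralizer_singleton_iff.1 hk]
  -- the odd core contributes no factor `r`
  have huX' : u ∈ X := huX
  set u' : ↥X := ⟨u, huX⟩ with hu'
  have hu'2 : orderOf u' = 2 := (Subgroup.orderOf_mk _ huX).trans hu2
  have hc' : z' * u' = u' * z' := Subtype.ext hzu.eq
  have hne' : u' ≠ z' := fun e => hne (congrArg Subtype.val e)
  haveI hkl := BG.isKleinFour_four hz'2 hu'2 hc' hne'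
  set A := BG.four z' u' with hAdef
  haveI hAc : IsMulCommutative A := ⟨⟨fun a c => Subtype.ext (BG.four_comm hz'2 hu'2 hc' hne' a.2 c.2)⟩⟩
  have hcop : (Nat.card A).Coprime (Nat.card (oddCore X)) := by
    rw [hkl.card_four, show (4 : ℕ) = 2 ^ 2 by norm_num]
    exact Nat.Coprime.pow_left 2 (Nat.coprime_two_left.2 hodd)
  have hAK : A ≤ Subgroup.normalizer ((oddCore X : Subgroup ↥X) : Set ↥X) := by
    rw [Subgroup.normalizer_eq_top (oddCore X)]; exact le_top
  obtain ⟨P, hP⟩ := coprime_exists_invariant_sylow hAK hcop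
    (Or.inl (Group.isSolvable_of_comm fun a c => hAc.is_comm.comm a c)) r
  set P' : Subgroup ↥X := (P : Subgroup ↥(oddCore X)).map (oddCore X).subtype with hP'
  have hP'K : P' ≤ oddCore X := Subgroup.map_subtype_le _
  have hgen := coprime_generated_by_centralizers IsKleinFour.not_isCyclic hP
    (hcop.coprime_dvd_right (Subgroup.card_dvd_of_le hP'K))
  have hL2 : Loc r b u (D.map (MulAut.conj t).toMonoidHom) := by
    have := hL.conj t
    rwa [show t * b * t⁻¹ = b by rw [hbt.symm.eq, mul_inv_cancel_right]] at this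
  have hL3 : Loc r b (d.z * u) ((D.map (MulAut.conj t).toMonoidHom).map (MulAut.conj t).toMonoidHom) := by
    have := hL2.conj t
    rwa [show t * b * t⁻¹ = b by rw [hbt.symm.eq, mul_inv_cancel_right], htu] at this
  have hP'C : P' ≤ C1 := by
    rw [← hgen]
    refine iSup₂_le fun a ha => ?_
    obtain ⟨haA, ha1⟩ := ha
    obtain ⟨Da, hLa, hza⟩ : ∃ Da, Loc r b (a : G) Da ∧ Commute (a : G) d.z := by
      rcases (BG.mem_four hz'2 hu'2 hc').1 haA with rfl | rfl | rfl | rfl
      · exact absurd rfl ha1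
      · exact ⟨D, hL, Commute.refl _⟩
      · exact ⟨_, hL2, hzu.symm⟩
      · exact ⟨_, hL3, (Commute.refl d.z).mul_left hzu.symm⟩
    intro y hy
    set Y : Subgroup G := K ⊓ Subgroup.centralizer ({(a : G)} : Set G) with hY
    have hYc : ∀ w ∈ Y, Commute b w ∧ Commute (a : G) w := by
      rintro w ⟨⟨w', -, rfl⟩, hw⟩
      exact ⟨hbH (hXH w'.2), (Subgroup.mem_centralizer_singleton_iff.1 hw).symm⟩
    have hYn : ∀ x ∈ Da, ∀ w ∈ Y, x * w * x⁻¹ ∈ Y := by
      rintro x hx w ⟨hwK, hwa⟩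
      refine ⟨hKn x (hHb (hLa.comm_a x hx)) w hwK, Subgroup.mem_centralizer_singleton_iff.2 ?_⟩
      exact (((hLa.comm_v x hx).mul_right (hYc w ⟨hwK, hwa⟩).2).mul_right (hLa.comm_v x hx).inv_right).symm.eq
    have hPY : (P' ⊓ Subgroup.centralizer ({a} : Set ↥X)).map X.subtype ≤ Y := by
      rintro _ ⟨w, ⟨hwP, hwa⟩, rfl⟩
      exact ⟨⟨w, hP'K hwP, rfl⟩, Subgroup.mem_centralizer_singleton_iff.2
        (congrArg Subtype.val (Subgroup.mem_centralizer_singleton_iff.1 hwa))⟩
    have hzP : ∀ w ∈ (P' ⊓ Subgroup.centralizer ({a} : Set ↥X)).map X.subtype,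
        d.z * w * d.z⁻¹ ∈ (P' ⊓ Subgroup.centralizer ({a} : Set ↥X)).map X.subtype := by
      rintro _ ⟨w, ⟨hwP, hwa⟩, rfl⟩
      refine ⟨z' * w * z'⁻¹, ⟨(Subgroup.mem_normalizer_iff.1 (hP (BG.left_mem_four z' u')) w).1 hwP, ?_⟩, rfl⟩
      have h1 : Commute a z' := Subtype.ext hza.eq
      exact Subgroup.mem_centralizer_singleton_iff.2
        ((h1.mul_right (Subgroup.mem_centralizer_singleton_iff.1 hwa : Commute w a).symm).mul_right h1.inv_right).symm.eq
    have := hLa.odd Y (hKodd.of_dvd_nat (Subgroup.card_dvd_of_le inf_le_left)) hYc hYn _ hPY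
      (((P.2.map _).to_le inf_le_left).map _) d.z hz hbz hza hzP (y : G) ⟨y, hy, rfl⟩
    exact Subgroup.mem_centralizer_singleton_iff.2 (Subtype.ext this.symm.eq)
  have hm : ¬ r ∣ (C1.subgroupOf (oddCore X)).index := fun hd' => by
    refine P.not_dvd_index (hd'.trans (Subgroup.index_dvd_of_le ?_))
    exact fun x hx => Subgroup.mem_subgroupOf.2 (hP'C ⟨x, hx, rfl⟩)
  -- cancel
  have hidx : C1.index = Cb.index * (C1.subgroupOf (oddCore X)).index := by
    have hker : π.ker = oddCore X := QuotientGroup.ker_mk' _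
    rw [hCbe, Subgroup.index_map, hker, MonoidHom.range_eq_top.2 (QuotientGroup.mk'_surjective _),
      Subgroup.index_top, mul_one, ← Subgroup.relIndex]
    have e1 : (C1 ⊓ oddCore X).relIndex C1 * C1.index = (C1 ⊓ oddCore X).relIndex (oddCore X) * (oddCore X).index := by
      rw [Subgroup.relIndex_mul_index inf_le_left, Subgroup.relIndex_mul_index inf_le_right]
    have e2 : (oddCore X).index = (oddCore X).relIndex C1 * (C1 ⊔ oddCore X).index := by
      rw [← Subgroup.relIndex_mul_index (le_sup_right : oddCore X ≤ C1 ⊔ oddCore X), Subgroup.relIndex_sup_right]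
    rw [Subgroup.inf_relIndex_left, Subgroup.inf_relIndex_right, e2] at e1
    refine Nat.eq_of_mul_eq_mul_left (show 0 < (oddCore X).relIndex C1 from Nat.pos_of_ne_zero Subgroup.index_ne_zero_of_finite) ?_
    rw [e1]; ring
  rcases hr.dvd_mul.1 (hidx ▸ hdvd1) with h1 | h1
  · -- the model
    obtain ⟨x, hx, hxY⟩ := hL.elt
    haveI := hL.perfect
    haveI : Group.IsPerfect (D.subgroupOf X) := Group.IsPerfect.ofSurjective
      (f := (Subgroup.subgroupOfEquivOfLe hDX).symm.toMonoidHom) (Subgroup.subgroupOfEquivOfLe hDX).symm.surjective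
    have hxo : 4 * r ∣ orderOf (π ⟨x, hDX hx⟩) := by
      refine hxY (K ⊓ D) inf_le_right (hKodd.of_dvd_nat (Subgroup.card_dvd_of_le inf_le_left))
        (fun c hc y hy => ⟨hKn c (hDH hc) y hy.1, D.mul_mem (D.mul_mem hc hy.2) (D.inv_mem hc)⟩) _ ⟨?_, pow_mem hx _⟩
      exact ⟨⟨x, hDX hx⟩ ^ orderOf (π ⟨x, hDX hx⟩),
        (QuotientGroup.eq_one_iff _).1 (show π _ = 1 by rw [map_pow, pow_orderOf_eq_one]), rfl⟩
    refine FieldElem.model_index hXs hXq hXm
      (fun a c => FieldElem.sq_eq_of_quotient (oddCore X) hodd X.subtype X.subtype_injective d.S hsd)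
      hr (hπ2 z' hz'2) (D := (D.subgroupOf X).map π) (Group.IsPerfect.map π) ?_ ⟨_, hx, rfl⟩ hxo h1
    rintro _ ⟨w, hw, rfl⟩
    refine Subgroup.mem_centralizer_singleton_iff.2 ?_
    rw [← map_mul, ← map_mul]
    exact congrArg π (Subtype.ext (hL.comm_v w hw).symm.eq)
  · exact hm h1

end CfsgLib.RankTwoModel
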