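import Cfsg.Agent.Lib.RankTwoModel.FieldElem.Main
import Cfsg.Agent.Lib.RankTwoModel.FieldElem.Even
import Cfsg.Agent.Lib.RankTwoModel.L4.Inner
import Cfsg.Agent.Lib.RankTwoModel.Assembly

/-!
The centraliser of an involution has no field part.

* `Rep.field_one`: the statement, given that the involutions centralise the core;
* `no_field`: the parcel `NoField` of the assembly.
-/

set_option autoImplicit false
set_option linter.unusedSectionVars false
set_option linter.style.haveILetI false

namespace CfsgLib.RankTwoModel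

open Cfsg CfsgLib.BrauerOrder
open scoped MatrixGroups

universe u

variable {G : Type u} [Group G] [Finite G] {d : Frame G}

/-- **No field part.** -/
theorem Rep.field_one (R : Rep d) (h : Hyp G) (hd : d.Spec) (hq : 3 < d.q)
    (hOD : ∀ x ∈ d.O, ∀ y ∈ d.D, x * y = y * x) (hOu : ∀ x ∈ d.O, ∀ v ∈ d.C, orderOf v = 2 → v * x = x * v)
    (c : ↥d.C) : R.field hd c = 1 := by
  classical
  haveI := Fintype.ofFinite G
  haveI := h.simple
  haveI : Fintype (Cz d.z) := Fintype.ofFinite _
  obtain ⟨Ω, iΩ, D, hD, -, -, -, hZ⟩ := hd.exists_sys h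
  rcases hZ with ⟨hsd, -⟩ | ⟨-, h4⟩
  · have hN : ∀ r : ℕ, r.Prime → r ∣ d.C.index →
        ∀ v ∈ d.C, orderOf v = 2 → ∀ x ∈ d.O, (∃ k : ℕ, x ^ r ^ k = 1) → v * x * v⁻¹ = x⁻¹ → x = 1 := by
      intro r _ _ v hv hv2 x hx _ e
      rw [hOu x hx v hv hv2, mul_inv_cancel_right] at e
      exact CfsgLib.RankTwoModel.eq_one_of_sq_odd (mul_eq_one_iff_eq_inv.2 e)
        (d.O_odd.of_dvd_nat (Subgroup.orderOf_dvd_natCard _ hx))
    obtain ⟨g, hg⟩ := L4.inner_sd R h hd hq hsd hOD hN (fun r hr hr2 hI hrm hf =>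
      haveI := Fact.mk hr; R.no_index_dvd hd hq h hsd hOD hr2 hI hrm hf) c
    exact (R.field_eq hd (g := g) (e := RingEquiv.refl d.F) fun A => by
      rw [hg A, show A.1.map (RingEquiv.refl d.F) = A.1 from Matrix.ext fun _ _ => rfl]).trans rfl
  · haveI : Finite Ω := BrauerOrder.finite_omega hD.core
    -- the field parts have odd order
    have hodd : ∀ x : ↥d.C, Odd (orderOf (R.field hd x)) := by
      intro x
      obtain ⟨a, m, hm, hn⟩ := Nat.exists_eq_two_pow_mul_odd (orderOf_pos x).ne'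
      have h1 : R.field hd x ^ m = 1 := by
        rw [← map_pow]
        exact R.field_two hd hq h _ (k := a) (by rw [← pow_mul, mul_comm, ← hn, pow_orderOf_eq_one])
      exact hm.of_dvd_nat (orderOf_dvd_of_pow_eq_one h1)
    obtain ⟨χ, k, hk, hinj, hpow⟩ := L4.exists_odd_char d.F
    have hθ : BrauerTwist.IsField (χ.comp (R.field hd) : Cz d.z →* ℂˣ) k :=
      ⟨FieldTransfer.consistent _ hd.zord (fun w hw => h.all_conj d.z w hd.zord hw)
        (h.field_pairInv R hd hq hOD χ hinj hk hpow), hk, fun x => hpow _⟩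
    exact hinj _ (hodd c) (DFunLike.congr_fun (BrauerTwist.wreathed_eq_one hD h.noncomm h4 hθ) c)

/-- **P9, field part.** -/
theorem no_field : NoField.{u} := fun _ _ _ _ R h hd hq hOD hOu c => R.field_one h hd hq hOD hOu c

end CfsgLib.RankTwoModel
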