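import Cfsg.Agent.Lib.RankTwoModel.FieldElem.Loc
import Cfsg.Agent.Lib.RankTwoModel.Glue.FieldPair

/-!
An element of `C ∩ C(u)` of prime-power order whose field part has order `r | qm` is a pure field element.

* `Rep.mem_O_of_field`: one with trivial field part lies in `O`;
* `Rep.exists_loc_of_field`: otherwise it gives a `Loc`.
-/

set_option autoImplicit false
set_option linter.unusedSectionVars false
set_option linter.style.haveILetI false

namespace CfsgLib.RankTwoModel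

open Cfsg
open scoped MatrixGroups

universe u

variable {G : Type u} [Group G] [Finite G] {d : Frame G}

namespace SL2

open Matrix CfsgLib.PSL2 CfsgLib.PSL2Max

variable {F : Type} [Field F] [Fintype F]

/-- The `r`-elements of the centraliser of an outer involution are trivial for `r | qm`. -/
theorem conjSL_eq_one_of_cent (hodd : Odd (Fintype.card F)) (h3 : 3 < Fintype.card F) {r : ℕ} [Fact r.Prime]
    (hr2 : r ≠ 2) (hrm : r ∣ GW.Model.qm F) {m g : GL (Fin 2) F} (htr : m.1.trace = 0)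
    (hns : ∀ a : F, m.1 ≠ a • (1 : Matrix (Fin 2) (Fin 2) F)) (hdet : ¬ IsSquare m.1.det)
    (hc : Commute (conjSL g) (conjSL m)) {k : ℕ} (hk : conjSL g ^ r ^ k = 1) : conjSL g = 1 := by
  have hr : r.Prime := Fact.out
  have hker : ∀ x : GL (Fin 2) F, conjSL x = 1 → pgm x = 1 := fun x hx => by
    obtain ⟨-, hs⟩ := semi_eq_one (g := x) (e := RingEquiv.refl F) (by
      rw [hx, show fieldSL (RingEquiv.refl F) = 1 from fieldSL_one, one_mul])
    exact pgm_one_of_scalar hs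
  set τ := pgm m with hτ
  have hτ2 : τ * τ = 1 := by
    rw [hτ, ← map_mul]
    refine pgm_one_of_scalar (z := -m.1.det) ?_
    rw [Units.val_mul, Matrix.trace_fin_two] at *
    ext i j
    fin_cases i <;> fin_cases j <;>
      simp [Matrix.mul_apply, Fin.sum_univ_two, Matrix.det_fin_two, eq_neg_of_add_eq_zero_right htr] <;> ring
  have hτ1 : τ ≠ 1 := fun e => by
    obtain ⟨z, -, hz⟩ := scalar_of_pgm_one e
    exact hns z hz
  have hcm : pgm g * τ = τ * pgm g := by
    have h1 : conjSL (g * m * g⁻¹ * m⁻¹) = 1 := by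
      rw [map_mul, map_mul, map_mul, map_inv, map_inv, hc.eq, mul_inv_cancel_right, mul_inv_cancel]
    have h2 := hker _ h1
    rw [map_mul, map_mul, map_mul, map_inv, map_inv, ← hτ] at h2
    exact mul_inv_eq_iff_eq_mul.1 (mul_inv_eq_one.1 h2)
  obtain ⟨-, -, -, -, -, -, hcard, -, -, -, -⟩ := GW.Model.invol_cent hodd h3 hτ2 hτ1
  have hout : τ ∉ (CfsgLib.PSL2Max.phi (F := F)).range := fun e => hdet ((GW.Model.inner_iff m).1 e)
  have hto : GW.Model.torusOrder τ = GW.Model.qp F := by rw [GW.Model.torusOrder, if_neg hout]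
  have hord : orderOf (pgm g) ∣ 2 * GW.Model.qp F := by
    rw [← hto, ← hcard]
    exact Subgroup.orderOf_dvd_natCard _ (Subgroup.mem_centralizer_singleton_iff.2 hcm)
  have hrk : pgm g ^ r ^ k = 1 := by
    rw [← map_pow]
    exact hker _ (by rw [map_pow, hk])
  have hcop : Nat.Coprime (r ^ k) (2 * GW.Model.qp F) := by
    refine Nat.Coprime.pow_left k ((hr.coprime_iff_not_dvd).2 fun h => ?_)
    rcases hr.dvd_mul.1 h with h2 | hp
    · exact hr2 ((Nat.prime_dvd_prime_iff_eq hr Nat.prime_two).1 h2)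
    · obtain ⟨-, -, -, hsum⟩ := GW.Model.qm_qp_arith hodd
      have h2q : r ∣ 2 * Fintype.card F := hsum ▸ dvd_add hrm hp
      rcases hr.dvd_mul.1 h2q with h2 | hq
      · exact hr2 ((Nat.prime_dvd_prime_iff_eq hr Nat.prime_two).1 h2)
      · have h1 : r ∣ 1 := by
          have hq1 : 0 < Fintype.card F := Fintype.card_pos
          rw [GW.Model.qm] at hrm
          split_ifs at hrm
          · have := Nat.dvd_sub hq hrm
            rwa [show Fintype.card F - (Fintype.card F - 1) = 1 by omega] at this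
          · have := Nat.dvd_sub hrm hq
            rwa [show Fintype.card F + 1 - Fintype.card F = 1 by omega] at this
        exact hr.not_dvd_one h1
  have hg1 : pgm g = 1 := orderOf_eq_one_iff.1
    (Nat.eq_one_of_dvd_coprimes hcop (orderOf_dvd_of_pow_eq_one hrk) hord)
  obtain ⟨z, -, hz⟩ := scalar_of_pgm_one hg1
  exact conjSL_scalar hz

end SL2

variable (R : Rep d) (hd : d.Spec) (hq : 3 < d.q)

section

variable (h : Hyp G) (hsd : IsQuasiDihedral (d.S : Subgroup G)) {r : ℕ} [Fact r.Prime] (hr2 : r ≠ 2)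
  (hrm : r ∣ GW.Model.qm d.F) {b v : G} (hb : b ∈ d.C) {k : ℕ} (hbp : b ^ r ^ k = 1) (hv : v ∈ d.C)
  (hv2 : orderOf v = 2) (hvz : v ≠ d.z) (hbv : Commute b v)

include hd hq h hsd hr2 hrm hbp hv hv2 hvz hbv

/-- Powers with trivial field part act trivially. -/
theorem Rep.sigma_pow_eq_one {n : ℕ} (hn : R.field hd ⟨b, hb⟩ ^ n = 1) : R.σ ⟨b, hb⟩ ^ n = 1 := by
  obtain ⟨m, htr, hns, hm⟩ := R.invol hd hq h hv hv2 hvz
  have hm' : R.σ ⟨v, hv⟩ = PSL2.conjSL m := MulEquiv.ext fun A => Subtype.ext (hm A)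
  obtain ⟨g, hg⟩ := R.exists_conj_of_field hd hq (c := ⟨b, hb⟩ ^ n) (by rw [map_pow, hn])
  have hg' : R.σ (⟨b, hb⟩ ^ n) = PSL2.conjSL g := MulEquiv.ext fun A => Subtype.ext (hg A)
  rw [← map_pow, hg']
  refine SL2.conjSL_eq_one_of_cent hd.odd_card (hd.three_lt hq) hr2 hrm htr hns (R.outer hd hq h hsd hv hv2 hvz hm')
    ?_ (k := k) ?_
  · rw [← hg', ← hm']
    exact ((show Commute (⟨b, hb⟩ : ↥d.C) ⟨v, hv⟩ from Subtype.ext hbv.eq).pow_left n).map R.σ
  · rw [← hg', ← map_pow, ← pow_mul, mul_comm, pow_mul, show (⟨b, hb⟩ : ↥d.C) ^ r ^ k = 1 from Subtype.ext hbp,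
      one_pow, map_one]

/-- An element with trivial field part lies in the core. -/
theorem Rep.mem_O_of_field (hf : R.field hd ⟨b, hb⟩ = 1) : b ∈ d.O := by
  have h1 := R.sigma_pow_eq_one hd hq h hsd hr2 hrm hb hbp hv hv2 hvz hbv (n := 1) (by rw [hf, one_pow])
  rw [pow_one] at h1
  exact R.sigma_eq_one hd hq h hb (((Fact.out : r.Prime).odd_of_ne_two hr2).pow.of_dvd_nat
    (orderOf_dvd_of_pow_eq_one hbp)) h1

/-- **A field element of `C ∩ C(u)` gives a `Loc`.** -/
theorem Rep.exists_loc_of_field (hOD : ∀ x ∈ d.O, ∀ y ∈ d.D, x * y = y * x)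
    (hI : ∀ w ∈ d.C, orderOf w = 2 → ∀ x ∈ d.O, (∃ j : ℕ, x ^ r ^ j = 1) → w * x * w⁻¹ = x⁻¹ → x = 1)
    (he : orderOf (R.field hd ⟨b, hb⟩) = r) : ∃ D : Subgroup G, Loc r b d.z D := by
  haveI : Fact d.p.Prime := ⟨hd.prime⟩
  haveI := hd.charP
  obtain ⟨g, e, hge⟩ := SL2.exists_semi d.p (hd.three_lt hq) (R.σ ⟨b, hb⟩)
  have hfe := R.field_eq hd hge
  rw [hfe] at he
  have hσ := SL2.eq_semi hge
  have hpow : (PSL2.conjSL g * PSL2.fieldSL e) ^ r = 1 := by
    rw [← hσ]
    exact R.sigma_pow_eq_one hd hq h hsd hr2 hrm hb hbp hv hv2 hvz hbv (by rw [hfe]; exact he ▸ pow_orderOf_eq_one e)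
  obtain ⟨u, hu⟩ := SL2.exists_pure he ((Fact.out : r.Prime).odd_of_ne_two hr2) hpow
  refine (R.conjGL u⁻¹).exists_loc hd hq h hsd hOD hr2 hI he hrm hb ?_
  rw [Rep.conjGL_sigma, hσ, hu, map_inv, inv_inv]
  group

end

end CfsgLib.RankTwoModel
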